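import Mathlib

/-! The two chart rings `R[T]/(uT - v)` and `R[S]/(vS - u)` of the blow-up of two elements. -/

set_option autoImplicit false

universe u

open Polynomial

noncomputable section

namespace Groth.Agent.HTopPerf

variable {R R' : Type u} [CommRing R] [CommRing R']

/-- The chart ring `R[T]/(aT - b)`. -/
def Chart (a b : R) : Type u := R[X] ⧸ Ideal.span {C a * X - C b}

instance instCommRingChart (a b : R) : CommRing (Chart a b) :=
  inferInstanceAs (CommRing (R[X] ⧸ Ideal.span {C a * X - C b}))

/-- The quotient map. -/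
def mkC (a b : R) : R[X] →+* Chart a b := Ideal.Quotient.mk _

/-- The parameter. -/
def par (a b : R) : Chart a b := mkC a b X

/-- The structure map. -/
def cst (a b : R) : R →+* Chart a b := (mkC a b).comp C

theorem cst_apply (a b r : R) : cst a b r = mkC a b (C r) := rfl

theorem par_eq (a b : R) : par a b = mkC a b X := rfl

theorem cst_par (a b : R) : cst a b a * par a b = cst a b b := by
  rw [← sub_eq_zero]
  show mkC a b (C a) * mkC a b X - mkC a b (C b) = 0
  rw [← map_mul, ← map_sub]
  exact Ideal.Quotient.eq_zero_iff_mem.2 (Ideal.mem_span_singleton_self _)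

/-- Maps out of a chart ring. -/
def liftC {a b : R} (φ : R →+* R') (t : R') (h : φ a * t = φ b) : Chart a b →+* R' :=
  Ideal.Quotient.lift _ (eval₂RingHom φ t) fun x hx => by
    obtain ⟨c, rfl⟩ := Ideal.mem_span_singleton'.1 hx
    simp [h]

theorem liftC_mkC {a b : R} (φ : R →+* R') (t : R') (h : φ a * t = φ b) (P : R[X]) :
    liftC φ t h (mkC a b P) = P.eval₂ φ t := rfl

@[simp]
theorem liftC_cst {a b : R} (φ : R →+* R') (t : R') (h : φ a * t = φ b) (r : R) :
    liftC φ t h (cst a b r) = φ r := by
  show liftC φ t h (mkC a b (C r)) = φ r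
  rw [liftC_mkC, eval₂_C]

@[simp]
theorem liftC_par {a b : R} (φ : R →+* R') (t : R') (h : φ a * t = φ b) : liftC φ t h (par a b) = t := by
  show liftC φ t h (mkC a b X) = t
  rw [liftC_mkC, eval₂_X]

theorem chart_hom_ext {a b : R} {f g : Chart a b →+* R'} (h : f.comp (cst a b) = g.comp (cst a b))
    (hp : f (par a b) = g (par a b)) : f = g :=
  Ideal.Quotient.ringHom_ext (Polynomial.ringHom_ext (fun r => RingHom.congr_fun h r) hp)

/-- In the universal case the first element is a nonzerodivisor on its chart. -/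
theorem cst_mem_nonZeroDivisors {a b : R} (ha : a ∈ nonZeroDivisors R)
    (hb : ∀ z : R, a ∣ b * z → a ∣ z) : cst a b a ∈ nonZeroDivisors (Chart a b) := by
  rw [mem_nonZeroDivisors_iff_right]
  intro z hz
  obtain ⟨P, rfl⟩ := Ideal.Quotient.mk_surjective z
  obtain ⟨Q, hQ⟩ := Ideal.mem_span_singleton'.1 (Ideal.Quotient.eq_zero_iff_mem.1
    (show mkC a b (P * C a) = 0 by rw [map_mul]; exact hz))
  have hdvd : ∀ i, a ∣ Q.coeff i := fun i => hb _ (by
    have h := congrArg (fun f : R[X] => f.coeff i) hQ
    simp only [mul_sub, coeff_sub, coeff_mul_C] at h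
    rcases i with _ | i
    · rw [mul_coeff_zero] at h
      simp only [mul_coeff_zero, coeff_X_zero, coeff_C_zero, mul_zero, zero_sub] at h
      exact ⟨-P.coeff 0, by linear_combination -h⟩
    · rw [← mul_assoc, coeff_mul_X, coeff_mul_C] at h
      exact ⟨Q.coeff i - P.coeff (i + 1), by linear_combination -h⟩)
  choose q hq using hdvd
  obtain ⟨Q', rfl⟩ : C a ∣ Q := C_dvd_iff_dvd_coeff a Q |>.2 fun i => ⟨q i, hq i⟩
  refine Ideal.Quotient.eq_zero_iff_mem.2 (Ideal.mem_span_singleton'.2 ⟨Q', ?_⟩)
  have hCa : C a ∈ nonZeroDivisors R[X] := by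
    rw [mem_nonZeroDivisors_iff_right]
    intro f hf
    ext i
    have := congrArg (fun f : R[X] => f.coeff i) hf
    simp only [coeff_mul_C, coeff_zero] at this
    rw [coeff_zero]
    exact mem_nonZeroDivisors_iff_right.1 ha _ this
  exact (mul_cancel_right_mem_nonZeroDivisors hCa).1 (by linear_combination hQ)

/-- Elements killed in the two charts multiply to zero. -/
theorem mul_eq_zero_of_charts {a b r r' : R} (h : cst a b r = 0) (h' : cst b a r' = 0) : r * r' = 0 := by
  obtain ⟨q, hq⟩ := Ideal.mem_span_singleton'.1 (Ideal.Quotient.eq_zero_iff_mem.1 h)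
  obtain ⟨p, hp⟩ := Ideal.mem_span_singleton'.1 (Ideal.Quotient.eq_zero_iff_mem.1 h')
  have key : ∀ (a b r : R) (q : R[X]), q * (C a * X - C b) = C r →
      r = -(q.coeff 0 * b) ∧ ∀ i, q.coeff i * a = q.coeff (i + 1) * b := by
    intro a b r q hq
    constructor
    · have h := congrArg (fun f : R[X] => f.coeff 0) hq
      simp [mul_sub, mul_coeff_zero, coeff_mul_C] at h
      exact h.symm
    · intro i
      have h := congrArg (fun f : R[X] => f.coeff (i + 1)) hq
      simp [mul_sub, ← mul_assoc, coeff_mul_C, coeff_C_succ] at h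
      exact sub_eq_zero.1 h
  obtain ⟨hr, hq'⟩ := key a b r q hq
  obtain ⟨hr', hp'⟩ := key b a r' p hp
  have hE : ∀ i, r * r' = q.coeff i * b * (p.coeff i * a) := by
    intro i
    induction i with
    | zero => rw [hr, hr']; ring
    | succ i ih => rw [ih, ← hq' i, ← hp' i]; ring
  rw [hE (q.natDegree + 1), coeff_eq_zero_of_natDegree_lt (Nat.lt_succ_self _), zero_mul, zero_mul]

/-- Reversal of coefficients in degree `m`, evaluated at an inverse. -/
theorem eval₂_reflect {A : Type u} [CommRing A] (φ : R →+* A) (t s : A) (hts : t * s = 1) (m : ℕ) (h : R[X])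
    (hm : h.natDegree ≤ m) : (reflect m h).eval₂ φ t = t ^ m * h.eval₂ φ s := by
  refine Polynomial.induction_with_natDegree_le
    (fun h => (reflect m h).eval₂ φ t = t ^ m * h.eval₂ φ s) m ?_ ?_ ?_ h hm
  · simp
  · intro n r _ hnm
    rw [reflect_C_mul_X_pow]
    simp only [revAt_le hnm, eval₂_mul, eval₂_C, eval₂_X_pow]
    calc φ r * t ^ (m - n) = φ r * t ^ (m - n) * (t * s) ^ n := by rw [hts, one_pow, mul_one]
      _ = t ^ m * (φ r * s ^ n) := by
        rw [mul_pow, show t ^ m = t ^ (m - n) * t ^ n by rw [← pow_add, Nat.sub_add_cancel hnm]]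
        ring
  · intro f g _ _ hf hg
    rw [reflect_add, eval₂_add, eval₂_add, hf, hg, mul_add]

/-- A pair of elements of the charts agreeing on the overlap comes from the base ring. -/
theorem exists_of_charts {a b : R} (g : Chart a b) (h : Chart b a)
    (e : ∀ (A : Type u) [CommRing A] (φ : R →+* A) (t s : A) (ht : φ a * t = φ b) (hs : φ b * s = φ a),
      t * s = 1 → liftC φ t ht g = liftC φ s hs h) :
    ∃ r : R, cst a b r = g ∧ cst b a r = h := by
  obtain ⟨G, rfl⟩ := Ideal.Quotient.mk_surjective g
  obtain ⟨H, rfl⟩ := Ideal.Quotient.mk_surjective h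
  let L := Localization.Away (par a b)
  let ι : Chart a b →+* L := algebraMap _ L
  have hu : IsUnit (ι (par a b)) := IsLocalization.Away.algebraMap_isUnit (par a b)
  let t : L := ι (par a b)
  let s : L := ↑hu.unit⁻¹
  have hts : t * s = 1 := hu.mul_val_inv
  let φ : R →+* L := ι.comp (cst a b)
  have ht : φ a * t = φ b := by
    show ι (cst a b a) * ι (par a b) = ι (cst a b b)
    rw [← map_mul]
    exact congrArg ι (cst_par a b)
  have hs : φ b * s = φ a := by rw [← ht, mul_assoc, hts, mul_one]
  have e' := e L φ t s ht hs hts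
  have hι : ∀ P : R[X], P.eval₂ φ t = ι (mkC a b P) := fun P => by
    have : eval₂RingHom φ t = ι.comp (mkC a b) :=
      Polynomial.ringHom_ext (fun r => by simp [φ, cst_apply]) (by simp [t, par_eq])
    exact RingHom.congr_fun this P
  have e1 : G.eval₂ φ t = H.eval₂ φ s := by exact e'
  let m₀ := H.natDegree + 1
  have e2 : ι (mkC a b (X ^ m₀ * G)) = ι (mkC a b (reflect m₀ H)) := by
    rw [← hι, ← hι, eval₂_reflect φ t s hts m₀ H (Nat.le_succ _), eval₂_mul, eval₂_X_pow, e1]
  obtain ⟨⟨_, k, rfl⟩, hk⟩ := (IsLocalization.eq_iff_exists (Submonoid.powers (par a b)) L).1 e2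
  simp only [← map_pow, ← map_mul] at hk
  let m := k + m₀
  have hm : H.natDegree ≤ m := by simp [m, m₀]; omega
  have hPdeg : (reflect m H).natDegree ≤ m := natDegree_le_iff_coeff_eq_zero.2 fun i hi => by
    rw [coeff_reflect, revAt_eq_self_of_lt hi]
    exact coeff_eq_zero_of_natDegree_lt (lt_of_le_of_lt hm hi)
  have hrefl : reflect m H = X ^ k * reflect m₀ H := by
    have := reflect_mul (1 : R[X]) H (F := k) (G := m₀) (by simp) (Nat.le_succ _)
    rw [one_mul, reflect_one] at this
    exact this
  obtain ⟨q, hq⟩ := Ideal.mem_span_singleton'.1 (Ideal.Quotient.eq.1 hk)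
  have hq' : X ^ m * G - reflect m H = q * (C a * X - C b) := by
    rw [hrefl, hq, show m = k + m₀ from rfl, pow_add]; ring
  let qh := q /ₘ (X ^ m)
  let ql := q %ₘ (X ^ m)
  have hmon : (X ^ m : R[X]).Monic := monic_X_pow m
  have hqd : ql + X ^ m * qh = q := modByMonic_add_div q _
  let G' := G - (C a * X - C b) * qh
  have hG' : X ^ m * G' = reflect m H + (C a * X - C b) * ql := by
    linear_combination hq' - (C a * X - C b) * hqd
  rcases subsingleton_or_nontrivial R with hR | hR
  · haveI : Subsingleton (Chart a b) :=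
      (show Function.Surjective (mkC a b) from Ideal.Quotient.mk_surjective).subsingleton
    haveI : Subsingleton (Chart b a) :=
      (show Function.Surjective (mkC b a) from Ideal.Quotient.mk_surjective).subsingleton
    exact ⟨0, Subsingleton.elim _ _, Subsingleton.elim _ _⟩
  have hqlm : ql.natDegree < m := natDegree_modByMonic_lt q hmon (by
    intro h
    have := congrArg natDegree h
    rw [natDegree_X_pow, natDegree_one] at this
    simp [m, m₀] at this) |>.trans_le (natDegree_X_pow_le m)
  have hlin : (C a * X - C b : R[X]).natDegree ≤ 1 := by compute_degree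
  have hdeg : (X ^ m * G').natDegree ≤ m := by
    rw [hG']
    exact (natDegree_add_le _ _).trans (max_le hPdeg (natDegree_mul_le.trans (by omega)))
  have hG0 : G' = C (G'.coeff 0) := by
    refine eq_C_of_natDegree_eq_zero (Nat.eq_zero_of_le_zero ?_)
    refine natDegree_le_iff_coeff_eq_zero.2 fun i hi => ?_
    have := coeff_eq_zero_of_natDegree_lt (p := X ^ m * G') (n := i + m) (lt_of_le_of_lt hdeg (by omega))
    rwa [coeff_X_pow_mul] at this
  refine ⟨G'.coeff 0, ?_, ?_⟩
  · show mkC a b (C (G'.coeff 0)) = mkC a b G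
    rw [← hG0]
    refine Ideal.Quotient.eq.2 (Ideal.mem_span_singleton'.2 ⟨-qh, ?_⟩)
    simp only [G']
    ring
  · have h1 := congrArg (reflect m) hG'
    rw [hG0, reflect_add, show X ^ m * C (G'.coeff 0) = C (G'.coeff 0) * X ^ m from mul_comm _ _,
      reflect_C_mul_X_pow, revAt_le le_rfl, Nat.sub_self, pow_zero, mul_one] at h1
    have hm1 : m = 1 + (m - 1) := by omega
    rw [show reflect m (reflect m H) = H by ext i; simp [coeff_reflect], hm1,
      reflect_mul _ _ hlin (by omega)] at h1
    refine Ideal.Quotient.eq.2 (Ideal.mem_span_singleton'.2 ⟨-(reflect (m - 1) ql), ?_⟩)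
    have e : reflect 1 (C a * X - C b) = C a - C b * X := by
      rw [reflect_sub, reflect_C]
      have : reflect 1 (C a * X) = C a := by
        conv_lhs => rw [← pow_one (X : R[X]), reflect_C_mul_X_pow, revAt_le le_rfl, Nat.sub_self, pow_zero, mul_one]
      rw [this, pow_one]
    rw [h1, e]
    ring

attribute [irreducible] Chart mkC par cst liftC

end Groth.Agent.HTopPerf
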