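import Groth.Agent.HTopPerf.Square
import Groth.Agent.HTopPerf.TwoAlg
import Groth.Agent.BlowChartLib.Transport
import Groth.Agent.HTopAlm.Criterion

/-! The blow-up of two indeterminates, pulled back: its sections are the base up to square zero. -/

set_option autoImplicit false
set_option linter.style.haveILetI false
set_option backward.isDefEq.respectTransparency false
set_option backward.isDefEq.respectTransparency.types false

universe w u
open CategoryTheory CategoryTheory.Limits AlgebraicGeometry Opposite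

noncomputable section

namespace Groth.Agent.HTopPerf

open Groth.Agent.BlowChartLib

/-- The universal ring. -/
abbrev A₀ : Type u := MvPolynomial (Fin 2) (ULift.{u} ℤ)

instance : IsDomain (ULift.{u} ℤ) := ULift.ringEquiv.toMulEquiv.isDomain ℤ

/-- The first indeterminate. -/
abbrev xv : A₀.{u} := MvPolynomial.X 0

/-- The second indeterminate. -/
abbrev yv : A₀.{u} := MvPolynomial.X 1

theorem xv_ndvd : ¬ (xv.{u} ∣ yv.{u}) := by
  rw [MvPolynomial.X_dvd_X]
  decide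

theorem yv_ndvd : ¬ (yv.{u} ∣ xv.{u}) := by
  rw [MvPolynomial.X_dvd_X]
  decide

theorem mem_nzd_X (k : Fin 2) : (MvPolynomial.X k : A₀.{u}) ∈ nonZeroDivisors A₀.{u} :=
  mem_nonZeroDivisors_of_ne_zero (MvPolynomial.X_ne_zero k)

theorem dvd_cancel_X (k l : Fin 2) (h : ¬ ((MvPolynomial.X k : A₀.{u}) ∣ MvPolynomial.X l)) (z : A₀.{u})
    (hz : (MvPolynomial.X k : A₀.{u}) ∣ MvPolynomial.X l * z) : (MvPolynomial.X k : A₀.{u}) ∣ z :=
  ((MvPolynomial.X_prime (R := ULift.{u} ℤ) (i := k)).dvd_or_dvd hz).resolve_left h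

/-- An affine test scheme on which the ideal becomes principal with regular generator. -/
theorem isEffCartier_specMap {A B : Type u} [CommRing A] [CommRing B] (ψ : A →+* B) (I : Ideal A) (f : B)
    (hI : I.map ψ = Ideal.span {f}) (hf : f ∈ nonZeroDivisors B) :
    BlowUp.IsEffCartierIdeal ((Curv2.idealSheaf A I).comap (Spec.map (CommRingCat.ofHom ψ))) := fun x => by
  let e : B →+* Γ(Spec (CommRingCat.of B), ⊤) := (Scheme.ΓSpecIso (CommRingCat.of B)).inv.hom
  refine ⟨⟨⊤, isAffineOpen_top _⟩, trivial, e f, ?_, ?_⟩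
  · let ε := (Scheme.ΓSpecIso (CommRingCat.of B)).symm.commRingCatIsoToRingEquiv
    show ε f ∈ _
    rw [mem_nonZeroDivisors_iff_right]
    intro z hz
    obtain ⟨z', rfl⟩ := ε.surjective z
    rw [← map_mul, map_eq_zero_iff ε ε.injective] at hz
    rw [mem_nonZeroDivisors_iff_right.1 hf z' hz, map_zero]
  · rw [ideal_comap_idealSheaf]
    have h1 : secHom (Spec.map (CommRingCat.ofHom ψ)) ⊤ = e.comp ψ := by
      rw [secHom, show e.comp ψ = (CommRingCat.ofHom ψ ≫ (Scheme.ΓSpecIso (CommRingCat.of B)).inv).hom from rfl,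
        Scheme.ΓSpecIso_inv_naturality]
      congr 2
    rw [h1, ← Ideal.map_map, hI, Ideal.map_span, Set.image_singleton]

theorem map_pair {A B : Type u} [CommRing A] [CommRing B] {a b : A} (ψ : A →+* B) (t : B) (h : ψ a * t = ψ b) :
    (Ideal.span {a, b}).map ψ = Ideal.span {ψ a} := by
  rw [Ideal.map_span, Set.image_pair, ← h]
  exact Ideal.span_pair_eq_span_left_iff_dvd.2 ⟨t, rfl⟩

/-- Postcomposing an equality of morphisms out of spectra. -/
theorem specMap_postcomp {A B C D : Type u} [CommRing A] [CommRing B] [CommRing C] [CommRing D] (f : A →+* C) (g : B →+* C)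
    (h : C →+* D) {X : Scheme.{u}} {j : Spec (CommRingCat.of A) ⟶ X} {j' : Spec (CommRingCat.of B) ⟶ X}
    (e : Spec.map (CommRingCat.ofHom f) ≫ j = Spec.map (CommRingCat.ofHom g) ≫ j') :
    Spec.map (CommRingCat.ofHom (h.comp f)) ≫ j = Spec.map (CommRingCat.ofHom (h.comp g)) ≫ j' := by
  rw [CommRingCat.ofHom_comp, CommRingCat.ofHom_comp, Spec.map_comp, Spec.map_comp, Category.assoc, Category.assoc, e]

/-- Sections pulled back along a composition. -/
theorem appTop_comp_apply {X Y Z : Scheme.{u}} (f : X ⟶ Y) (g : Y ⟶ Z) (r : Γ(Z, ⊤)) :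
    (f ≫ g).appTop.hom r = f.appTop.hom (g.appTop.hom r) := by
  rw [Scheme.Hom.comp_appTop]; rfl

/-- The structure map of a chart. -/
abbrev chartHom {A : Type u} [CommRing A] (a b : A) : Spec (CommRingCat.of (Chart a b)) ⟶ Spec (CommRingCat.of A) :=
  Spec.map (CommRingCat.ofHom (cst a b))

/-- The blow-up of the two indeterminates with its two charts. -/
theorem exists_universal : ∃ (B : Scheme.{u}) (p : B ⟶ Spec (CommRingCat.of A₀.{u}))
    (j : Spec (CommRingCat.of (Chart xv.{u} yv.{u})) ⟶ B) (j' : Spec (CommRingCat.of (Chart yv.{u} xv.{u})) ⟶ B),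
    IsProper p ∧ HTop.IsLocPrincipal ((Curv2.idealSheaf A₀.{u} (Ideal.span {xv, yv})).comap p) ∧
    j ≫ p = chartHom _ _ ∧ j' ≫ p = chartHom _ _ ∧
    (∀ (L : Type u) [CommRing L] (φ : A₀.{u} →+* L) (t s : L) (ht : φ xv * t = φ yv) (hs : φ yv * s = φ xv),
      t * s = 1 → Spec.map (CommRingCat.ofHom (liftC φ t ht)) ≫ j = Spec.map (CommRingCat.ofHom (liftC φ s hs)) ≫ j') ∧
    ∀ z : B, ∃ V : B.Opens, z ∈ V ∧ ((∃ k : (V : Scheme.{u}) ⟶ _, k ≫ j = V.ι) ∨ ∃ k : (V : Scheme.{u}) ⟶ _, k ≫ j' = V.ι) := by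
  classical
  let I : Ideal A₀.{u} := Ideal.span {xv, yv}
  obtain ⟨B, p, hb⟩ := BlowExistsLib.exists_isBlowUp (Curv2.idealSheaf A₀.{u} I)
  have hft : BlowUp.IsFiniteTypeIdeal (Curv2.idealSheaf A₀.{u} I) := fun V => by
    haveI : IsNoetherianRing Γ(Spec (CommRingCat.of A₀.{u}), V.1) := IsLocallyNoetherian.component_noetherian V
    exact IsNoetherian.noetherian _
  haveI : IsProper p := BlowExistsLib.isProper_of_FG hb hft
  have hx : cst xv.{u} yv xv ∈ nonZeroDivisors _ :=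
    cst_mem_nonZeroDivisors (mem_nzd_X 0) (dvd_cancel_X 0 1 xv_ndvd)
  have hy : cst yv.{u} xv yv ∈ nonZeroDivisors _ :=
    cst_mem_nonZeroDivisors (mem_nzd_X 1) (dvd_cancel_X 1 0 yv_ndvd)
  have hIy : I = Ideal.span {yv, xv} := by rw [Set.pair_comm]
  have hc : BlowUp.IsEffCartierIdeal ((Curv2.idealSheaf A₀.{u} I).comap (chartHom xv yv)) :=
    isEffCartier_specMap _ _ _ (map_pair _ _ (cst_par xv yv)) hx
  have hc' : BlowUp.IsEffCartierIdeal ((Curv2.idealSheaf A₀.{u} I).comap (chartHom yv xv)) :=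
    isEffCartier_specMap _ _ _ (by rw [hIy]; exact map_pair _ _ (cst_par yv xv)) hy
  obtain ⟨j, hj, -⟩ := hb.2 _ _ hc
  obtain ⟨j', hj', -⟩ := hb.2 _ _ hc'
  refine ⟨B, p, j, j', inferInstance, fun z => ?_, hj, hj', ?_, fun z => ?_⟩
  · obtain ⟨U, hU, f, -, hf⟩ := hb.1 z
    exact ⟨U, hU, f, hf⟩
  · intro L _ φ t s ht hs hts
    let L₀ := Localization.Away (par xv.{u} yv.{u})
    let ι : Chart xv.{u} yv →+* L₀ := algebraMap _ L₀
    have hu : IsUnit (ι (par xv yv)) := IsLocalization.Away.algebraMap_isUnit (par xv.{u} yv)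
    let φ₀ : A₀.{u} →+* L₀ := ι.comp (cst xv yv)
    let t₀ : L₀ := ι (par xv yv)
    let s₀ : L₀ := ↑hu.unit⁻¹
    have ht₀ : φ₀ xv * t₀ = φ₀ yv := by
      show ι (cst xv yv xv) * ι (par xv yv) = ι (cst xv yv yv)
      rw [← map_mul]
      exact congrArg ι (cst_par xv yv)
    have hts₀ : t₀ * s₀ = 1 := hu.mul_val_inv
    have hs₀ : φ₀ yv * s₀ = φ₀ xv := by rw [← ht₀, mul_assoc, hts₀, mul_one]
    have hφ₀ : φ₀ xv ∈ nonZeroDivisors L₀ :=
      IsLocalization.map_nonZeroDivisors_le (Submonoid.powers (par xv.{u} yv)) L₀ ⟨_, hx, rfl⟩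
    have hc₀ := isEffCartier_specMap φ₀ I _ (map_pair φ₀ t₀ ht₀) hφ₀
    have e₀ : Spec.map (CommRingCat.ofHom (liftC φ₀ t₀ ht₀)) ≫ j = Spec.map (CommRingCat.ofHom (liftC φ₀ s₀ hs₀)) ≫ j' := by
      refine (hb.2 _ _ hc₀).unique ?_ ?_
      · show (_ ≫ j) ≫ p = _
        rw [Category.assoc, hj, ← Spec.map_comp]
        exact congrArg Spec.map (CommRingCat.hom_ext (RingHom.ext fun r => liftC_cst φ₀ t₀ ht₀ r))
      · show (_ ≫ j') ≫ p = _
        rw [Category.assoc, hj', ← Spec.map_comp]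
        exact congrArg Spec.map (CommRingCat.hom_ext (RingHom.ext fun r => liftC_cst φ₀ s₀ hs₀ r))
    have hut : IsUnit (liftC φ t ht (par xv yv)) := by
      rw [liftC_par]; exact isUnit_iff_exists_inv.2 ⟨s, hts⟩
    let χ : L₀ →+* L := IsLocalization.Away.lift (par xv.{u} yv) (g := liftC φ t ht) hut
    have hχ : ∀ z, χ (ι z) = liftC φ t ht z := fun z => IsLocalization.Away.lift_eq _ hut z
    have e1 : χ.comp (liftC φ₀ t₀ ht₀) = liftC φ t ht := by
      refine chart_hom_ext (RingHom.ext fun r => ?_) (by simp [t₀, hχ])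
      show χ (liftC φ₀ t₀ ht₀ (cst _ _ r)) = liftC φ t ht (cst _ _ r)
      rw [liftC_cst]
      exact hχ _
    have e2 : χ.comp (liftC φ₀ s₀ hs₀) = liftC φ s hs := by
      refine chart_hom_ext (RingHom.ext fun r => ?_) ?_
      · show χ (liftC φ₀ s₀ hs₀ (cst _ _ r)) = liftC φ s hs (cst _ _ r)
        rw [liftC_cst, liftC_cst]
        exact (hχ _).trans (liftC_cst φ t ht r)
      rw [RingHom.comp_apply, liftC_par, liftC_par]
      have h1 : χ t₀ * χ s₀ = 1 := by rw [← map_mul, hts₀, map_one]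
      rw [show χ t₀ = t by simp [t₀, hχ]] at h1
      exact left_inv_eq_right_inv (a := t) (by rw [mul_comm]; exact h1) hts
    rw [← e1, ← e2]
    exact specMap_postcomp _ _ χ e₀
  · obtain ⟨a, ha, V, e, hz, he⟩ := exists_affine_chart A₀.{u} I p hb {xv, yv} rfl z
    refine ⟨V, hz, ?_⟩
    have hcV : BlowUp.IsEffCartierIdeal ((Curv2.idealSheaf A₀.{u} I).comap (V.ι ≫ p)) := by
      rw [Scheme.IdealSheafData.comap_comp]
      exact BlowCompLib.isEffCartier_comap_openImmersion hb.1 _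
    have hxI : xv.{u} ∈ I := Ideal.subset_span (Set.mem_insert _ _)
    have hyI : yv.{u} ∈ I := Ideal.subset_span (Set.mem_insert_of_mem _ rfl)
    rcases ha with rfl | rfl
    · have h : algebraMap A₀.{u} (BlowUp.affineAlgebra A₀.{u} I xv) xv * frac (a := xv) yv hyI =
          algebraMap A₀.{u} _ yv := by rw [mul_comm]; exact frac_mul yv hyI
      refine Or.inl ⟨e.hom ≫ Spec.map (CommRingCat.ofHom (liftC _ _ h)), (hb.2 _ _ hcV).unique ?_ rfl⟩
      show (_ ≫ j) ≫ p = _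
      rw [Category.assoc, hj, Category.assoc, ← he, ← Spec.map_comp]
      exact congrArg (e.hom ≫ Spec.map ·) (CommRingCat.hom_ext (RingHom.ext fun r => liftC_cst _ _ h r))
    · have h : algebraMap A₀.{u} (BlowUp.affineAlgebra A₀.{u} I yv) yv * frac (a := yv) xv hxI =
          algebraMap A₀.{u} _ xv := by rw [mul_comm]; exact frac_mul xv hxI
      refine Or.inr ⟨e.hom ≫ Spec.map (CommRingCat.ofHom (liftC _ _ h)), (hb.2 _ _ hcV).unique ?_ rfl⟩
      show (_ ≫ j') ≫ p = _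
      rw [Category.assoc, hj', Category.assoc, ← he, ← Spec.map_comp]
      exact congrArg (e.hom ≫ Spec.map ·) (CommRingCat.hom_ext (RingHom.ext fun r => liftC_cst _ _ h r))

/-- The base change of a chart of `A` along a ring map. -/
theorem isPushout_chart {A R : Type u} [CommRing A] [CommRing R] (φ : A →+* R) (a b : A) :
    IsPushout (CommRingCat.ofHom φ) (CommRingCat.ofHom (cst a b)) (CommRingCat.ofHom (cst (φ a) (φ b)))
      (CommRingCat.ofHom (liftC ((cst (φ a) (φ b)).comp φ) (par (φ a) (φ b)) (cst_par (φ a) (φ b)))) := by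
  have w : CommRingCat.ofHom φ ≫ CommRingCat.ofHom (cst (φ a) (φ b)) = CommRingCat.ofHom (cst a b) ≫
      CommRingCat.ofHom (liftC ((cst (φ a) (φ b)).comp φ) (par (φ a) (φ b)) (cst_par (φ a) (φ b))) :=
    CommRingCat.hom_ext (RingHom.ext fun r =>
      (liftC_cst ((cst (φ a) (φ b)).comp φ) _ (cst_par (φ a) (φ b)) r).symm)
  have hd : ∀ c : PushoutCocone (CommRingCat.ofHom φ) (CommRingCat.ofHom (cst a b)),
      c.inl.hom (φ a) * c.inr.hom (par a b) = c.inl.hom (φ b) := fun c => by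
    have h := fun r => ConcreteCategory.congr_hom c.condition r
    simp only [CommRingCat.hom_comp, RingHom.comp_apply, CommRingCat.hom_ofHom] at h
    rw [h a, h b, ← map_mul]
    exact congrArg c.inr.hom (cst_par a b)
  refine ⟨⟨w⟩, ⟨PushoutCocone.isColimitAux' _ fun c => ?_⟩⟩
  refine ⟨CommRingCat.ofHom (liftC (a := φ a) (b := φ b) c.inl.hom (c.inr.hom (par a b)) (hd c)),
    CommRingCat.hom_ext (RingHom.ext fun r => liftC_cst (a := φ a) (b := φ b) c.inl.hom _ (hd c) r), ?_, fun {m} h1 h2 => ?_⟩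
  · refine CommRingCat.hom_ext (chart_hom_ext (RingHom.ext fun r => ?_) ?_)
    · have := ConcreteCategory.congr_hom c.condition r
      simp only [CommRingCat.hom_comp, RingHom.comp_apply, CommRingCat.hom_ofHom] at this
      show liftC (a := φ a) (b := φ b) c.inl.hom _ (hd c)
        (liftC ((cst (φ a) (φ b)).comp φ) _ (cst_par (φ a) (φ b)) (cst a b r)) = c.inr.hom (cst a b r)
      rw [liftC_cst, RingHom.comp_apply, liftC_cst]
      exact this
    · show liftC (a := φ a) (b := φ b) c.inl.hom _ (hd c)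
        (liftC ((cst (φ a) (φ b)).comp φ) _ (cst_par (φ a) (φ b)) (par a b)) = c.inr.hom (par a b)
      rw [liftC_par, liftC_par]
  · refine CommRingCat.hom_ext (chart_hom_ext (RingHom.ext fun r => ?_) ?_)
    · show m.hom (cst (φ a) (φ b) r) = liftC (a := φ a) (b := φ b) c.inl.hom _ (hd c) (cst (φ a) (φ b) r)
      rw [liftC_cst]
      exact ConcreteCategory.congr_hom h1 r
    · show m.hom (par (φ a) (φ b)) = liftC (a := φ a) (b := φ b) c.inl.hom _ (hd c) (par (φ a) (φ b))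
      rw [liftC_par]
      exact (congrArg m.hom (liftC_par ((cst (φ a) (φ b)).comp φ) (par (φ a) (φ b)) (cst_par (φ a) (φ b))).symm).trans
        (ConcreteCategory.congr_hom h2 (par a b))

section Pullback

variable {B : Scheme.{u}} {p : B ⟶ Spec (CommRingCat.of A₀.{u})} {j : Spec (CommRingCat.of (Chart xv.{u} yv.{u})) ⟶ B}
  {j' : Spec (CommRingCat.of (Chart yv.{u} xv.{u})) ⟶ B}
  (hj : j ≫ p = chartHom _ _) (hj' : j' ≫ p = chartHom _ _)
  (hov : ∀ (L : Type u) [CommRing L] (φ : A₀.{u} →+* L) (t s : L) (ht : φ xv * t = φ yv) (hs : φ yv * s = φ xv),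
    t * s = 1 → Spec.map (CommRingCat.ofHom (liftC φ t ht)) ≫ j = Spec.map (CommRingCat.ofHom (liftC φ s hs)) ≫ j')
  (hcov : ∀ z : B, ∃ V : B.Opens, z ∈ V ∧
    ((∃ k : (V : Scheme.{u}) ⟶ _, k ≫ j = V.ι) ∨ ∃ k : (V : Scheme.{u}) ⟶ _, k ≫ j' = V.ι))
  {Y T : Scheme.{u}} [IsAffine T] {g : T ⟶ Spec (CommRingCat.of A₀.{u})} {q : Y ⟶ B} {π : Y ⟶ T} (hY : IsPullback q π p g)

/-- A lifted chart. -/
theorem exists_chartLift {a b : A₀.{u}} {k : Spec (CommRingCat.of (Chart a b)) ⟶ B} (hk : k ≫ p = chartHom a b)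
    (hY : IsPullback q π p g) :
    ∃ kT : Spec (CommRingCat.of (Chart (secHom g ⊤ a) (secHom g ⊤ b))) ⟶ Y,
      kT ≫ π = chartHom (secHom g ⊤ a) (secHom g ⊤ b) ≫ T.isoSpec.inv ∧
      kT ≫ q = Spec.map (CommRingCat.ofHom (liftC ((cst (secHom g ⊤ a) (secHom g ⊤ b)).comp (secHom g ⊤))
        (par (secHom g ⊤ a) (secHom g ⊤ b)) (cst_par (secHom g ⊤ a) (secHom g ⊤ b)))) ≫ k ∧
      ∀ {W : Scheme.{u}} (m : W ⟶ Y) (l : W ⟶ Spec (CommRingCat.of (Chart a b))), l ≫ k = m ≫ q →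
        ∃ l' : W ⟶ Spec (CommRingCat.of (Chart (secHom g ⊤ a) (secHom g ⊤ b))), l' ≫ kT = m := by
  let φ := secHom g ⊤
  have hφ : Spec.map (CommRingCat.ofHom φ) = T.isoSpec.inv ≫ g := by
    rw [← IsAffineOpen.fromSpec_top]
    exact fromSpec_secHom g ⟨⊤, isAffineOpen_top T⟩
  have hpo := isPushout_chart φ a b
  have hpb := isPullback_SpecMap_of_isPushout _ _ _ _ hpo.flip
  let μ := Spec.map (CommRingCat.ofHom (liftC ((cst (φ a) (φ b)).comp φ) (par (φ a) (φ b)) (cst_par (φ a) (φ b))))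
  have w : (μ ≫ k) ≫ p = (chartHom (φ a) (φ b) ≫ T.isoSpec.inv) ≫ g := by
    rw [Category.assoc, hk, Category.assoc, ← hφ]
    exact hpb.w
  refine ⟨hY.lift _ _ w, hY.lift_snd _ _ _, hY.lift_fst _ _ _, fun m l hl => ?_⟩
  have w' : l ≫ chartHom a b = (m ≫ π ≫ T.isoSpec.hom) ≫ Spec.map (CommRingCat.ofHom φ) := by
    rw [← hk, reassoc_of% hl, hY.w, hφ]
    simp
  refine ⟨hpb.lift l _ w', hY.hom_ext ?_ ?_⟩
  · rw [Category.assoc, hY.lift_fst, ← Category.assoc, hpb.lift_fst, hl]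
  · rw [Category.assoc, hY.lift_snd, ← Category.assoc, hpb.lift_snd, Category.assoc, Category.assoc, Iso.hom_inv_id,
      Category.comp_id]

theorem chartHom_appTop {a b : Γ(T, ⊤)} (r : Γ(T, ⊤)) :
    (Scheme.ΓSpecIso (CommRingCat.of (Chart a b))).hom.hom ((chartHom a b ≫ T.isoSpec.inv).appTop.hom r) =
      cst a b r := by
  have hinv : T.isoSpec.inv.appTop = (Scheme.ΓSpecIso Γ(T, ⊤)).inv := by
    rw [← Iso.comp_hom_eq_id (Scheme.ΓSpecIso Γ(T, ⊤)) |>.1]
    rw [← T.toSpecΓ_appTop, ← Scheme.Hom.comp_appTop, show T.toSpecΓ = T.isoSpec.hom from rfl, Iso.hom_inv_id,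
      Scheme.Hom.id_appTop]
  have h : (chartHom a b ≫ T.isoSpec.inv).appTop ≫ (Scheme.ΓSpecIso (CommRingCat.of (Chart a b))).hom =
      CommRingCat.ofHom (cst a b) := by
    rw [Scheme.Hom.comp_appTop, hinv, ← Scheme.ΓSpecIso_inv_naturality, Category.assoc, Iso.inv_hom_id, Category.comp_id]
  exact ConcreteCategory.congr_hom h r

theorem chart_res {Y : Scheme.{u}} {a b : Γ(T, ⊤)} (k : Spec (CommRingCat.of (Chart a b)) ⟶ Y) (π : Y ⟶ T)
    (h : k ≫ π = chartHom a b ≫ T.isoSpec.inv) (r : Γ(T, ⊤)) :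
    (Scheme.ΓSpecIso (CommRingCat.of (Chart a b))).hom.hom (k.appTop.hom (π.appTop.hom r)) = cst a b r := by
  rw [← appTop_comp_apply k π r, h]
  exact chartHom_appTop r

theorem overlap_pullback (ψ : A₀.{u} →+* Γ(T, ⊤))
    (hov : ∀ (L : Type u) [CommRing L] (φ : A₀.{u} →+* L) (t s : L) (ht : φ xv * t = φ yv) (hs : φ yv * s = φ xv),
      t * s = 1 → Spec.map (CommRingCat.ofHom (liftC φ t ht)) ≫ j = Spec.map (CommRingCat.ofHom (liftC φ s hs)) ≫ j')
    (kT : Spec (CommRingCat.of (Chart (ψ xv) (ψ yv))) ⟶ Y) (kT' : Spec (CommRingCat.of (Chart (ψ yv) (ψ xv))) ⟶ Y)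
    (hY : IsPullback q π p g)
    (hkπ : kT ≫ π = chartHom (ψ xv) (ψ yv) ≫ T.isoSpec.inv) (hkπ' : kT' ≫ π = chartHom (ψ yv) (ψ xv) ≫ T.isoSpec.inv)
    (hkq : kT ≫ q = Spec.map (CommRingCat.ofHom (liftC ((cst (ψ xv) (ψ yv)).comp ψ) (par _ _) (cst_par _ _))) ≫ j)
    (hkq' : kT' ≫ q = Spec.map (CommRingCat.ofHom (liftC ((cst (ψ yv) (ψ xv)).comp ψ) (par _ _) (cst_par _ _))) ≫ j')
    (L : Type u) [CommRing L] (φ : Γ(T, ⊤) →+* L) (t s : L) (ht : φ (ψ xv) * t = φ (ψ yv))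
    (hs : φ (ψ yv) * s = φ (ψ xv)) (hts : t * s = 1) :
    Spec.map (CommRingCat.ofHom (liftC φ t ht)) ≫ kT = Spec.map (CommRingCat.ofHom (liftC φ s hs)) ≫ kT' := by
  have e1 : (liftC φ t ht).comp (liftC ((cst (ψ xv) (ψ yv)).comp ψ) (par _ _) (cst_par _ _)) =
      liftC (φ.comp ψ) t ht := by
    refine chart_hom_ext (RingHom.ext fun r => ?_) ?_
    · show liftC φ t ht (liftC _ _ _ (cst _ _ r)) = liftC (φ.comp ψ) t ht (cst _ _ r)
      rw [liftC_cst, RingHom.comp_apply, liftC_cst, liftC_cst]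
      rfl
    · show liftC φ t ht (liftC _ _ _ (par _ _)) = liftC (φ.comp ψ) t ht (par _ _)
      rw [liftC_par, liftC_par, liftC_par]
  have e2 : (liftC φ s hs).comp (liftC ((cst (ψ yv) (ψ xv)).comp ψ) (par _ _) (cst_par _ _)) =
      liftC (φ.comp ψ) s hs := by
    refine chart_hom_ext (RingHom.ext fun r => ?_) ?_
    · show liftC φ s hs (liftC _ _ _ (cst _ _ r)) = liftC (φ.comp ψ) s hs (cst _ _ r)
      rw [liftC_cst, RingHom.comp_apply, liftC_cst, liftC_cst]
      rfl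
    · show liftC φ s hs (liftC _ _ _ (par _ _)) = liftC (φ.comp ψ) s hs (par _ _)
      rw [liftC_par, liftC_par, liftC_par]
  refine hY.hom_ext ?_ ?_
  · rw [Category.assoc, Category.assoc, hkq, hkq', ← Spec.map_comp_assoc, ← Spec.map_comp_assoc,
      ← CommRingCat.ofHom_comp, ← CommRingCat.ofHom_comp, e1, e2]
    exact hov L _ t s ht hs hts
  · rw [Category.assoc, Category.assoc, hkπ, hkπ', ← Spec.map_comp_assoc, ← Spec.map_comp_assoc]
    refine congrArg (fun f => Spec.map f ≫ T.isoSpec.inv) ?_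
    exact CommRingCat.hom_ext (RingHom.ext fun r => (liftC_cst φ t ht r).trans (liftC_cst φ s hs r).symm)

theorem surjective_of_charts {Y : Scheme.{u}} {a b : Γ(T, ⊤)} (kT : Spec (CommRingCat.of (Chart a b)) ⟶ Y)
    (kT' : Spec (CommRingCat.of (Chart b a)) ⟶ Y) (π : Y ⟶ T) (hkπ : kT ≫ π = chartHom a b ≫ T.isoSpec.inv)
    (hkπ' : kT' ≫ π = chartHom b a ≫ T.isoSpec.inv)
    (hcovY : ∀ s : Γ(Y, ⊤), kT.appTop.hom s = 0 → kT'.appTop.hom s = 0 → s = 0)
    (he : ∀ (L : Type u) [CommRing L] (φ : Γ(T, ⊤) →+* L) (t s : L) (ht : φ a * t = φ b) (hs : φ b * s = φ a),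
      t * s = 1 → Spec.map (CommRingCat.ofHom (liftC φ t ht)) ≫ kT = Spec.map (CommRingCat.ofHom (liftC φ s hs)) ≫ kT')
    (s : Γ(Y, ⊤)) : ∃ r, π.appTop.hom r = s := by
  obtain ⟨r, hr, hr'⟩ := exists_of_charts (a := a) (b := b)
    ((Scheme.ΓSpecIso (CommRingCat.of (Chart a b))).hom.hom (kT.appTop.hom s))
    ((Scheme.ΓSpecIso (CommRingCat.of (Chart b a))).hom.hom (kT'.appTop.hom s)) (by
      intro L _ φ t s' ht hs hts
      have h := congrArg (fun m => (Scheme.ΓSpecIso (CommRingCat.of L)).hom.hom ((Scheme.Hom.appTop m).hom s))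
        (he L φ t s' ht hs hts)
      simp only [appTop_comp_apply] at h
      refine Eq.trans ?_ (h.trans ?_)
      · exact (ConcreteCategory.congr_hom (Scheme.ΓSpecIso_naturality (CommRingCat.ofHom (liftC φ t ht))) _).symm
      · exact ConcreteCategory.congr_hom (Scheme.ΓSpecIso_naturality (CommRingCat.ofHom (liftC φ s' hs))) _)
  refine ⟨r, sub_eq_zero.1 (hcovY _ ?_ ?_)⟩
  · apply (ConcreteCategory.bijective_of_isIso (Scheme.ΓSpecIso (CommRingCat.of (Chart a b))).hom).1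
    rw [map_sub, map_sub, map_zero, chart_res kT π hkπ r, hr, sub_self]
  · apply (ConcreteCategory.bijective_of_isIso (Scheme.ΓSpecIso (CommRingCat.of (Chart b a))).hom).1
    rw [map_sub, map_sub, map_zero, chart_res kT' π hkπ' r, hr', sub_self]

include hj hj' hov hcov in
/-- The sections of the pulled back blow-up square. -/
theorem secSquare_blow (hY : IsPullback q π p g) {Z : Scheme.{u}} (i : Z ⟶ T)
    (hx : i.appTop.hom (secHom g ⊤ xv) = 0) (hy : i.appTop.hom (secHom g ⊤ yv) = 0) :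
    SecSquare (pullback.fst π i) (pullback.snd π i) π i := by
  obtain ⟨kT, hkπ, hkq, hkl⟩ := exists_chartLift hj hY
  obtain ⟨kT', hkπ', hkq', hkl'⟩ := exists_chartLift hj' hY
  let a := secHom g ⊤ xv
  let b := secHom g ⊤ yv
  have hcovY : ∀ s : Γ(Y, ⊤), kT.appTop.hom s = 0 → kT'.appTop.hom s = 0 → s = 0 := by
    intro s h1 h2
    refine Y.IsSheaf.section_ext fun z _ => ?_
    obtain ⟨V, hz, hV⟩ := hcov (q z)
    refine ⟨q ⁻¹ᵁ V, le_top, hz, ?_⟩
    rw [map_zero]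
    have key : (q ⁻¹ᵁ V).ι.appTop.hom s = 0 := by
      rcases hV with ⟨k, hk⟩ | ⟨k, hk⟩
      · obtain ⟨l', hl'⟩ := hkl (q ⁻¹ᵁ V).ι ((q ∣_ V) ≫ k) (by rw [Category.assoc, hk, morphismRestrict_ι])
        rw [← hl', Scheme.Hom.comp_appTop, CommRingCat.hom_comp, RingHom.comp_apply, h1, map_zero]
      · obtain ⟨l', hl'⟩ := hkl' (q ⁻¹ᵁ V).ι ((q ∣_ V) ≫ k) (by rw [Category.assoc, hk, morphismRestrict_ι])
        rw [← hl', Scheme.Hom.comp_appTop, CommRingCat.hom_comp, RingHom.comp_apply, h2, map_zero]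
    rw [Scheme.Opens.ι_appTop] at key
    have h := congrArg (Y.presheaf.map (eqToHom (q ⁻¹ᵁ V).ι_image_top.symm).op).hom key
    have h' : (Y.presheaf.map (homOfLE (le_top : (q ⁻¹ᵁ V).ι ''ᵁ ⊤ ≤ ⊤)).op ≫
        Y.presheaf.map (eqToHom (q ⁻¹ᵁ V).ι_image_top.symm).op).hom s = 0 := h.trans (map_zero _)
    rw [← Functor.map_comp] at h'
    exact h'
  have hsurj : ∀ s : Γ(Y, ⊤), ∃ r, π.appTop.hom r = s :=
    surjective_of_charts kT kT' π hkπ hkπ' hcovY (overlap_pullback (secHom g ⊤) hov kT kT' hY hkπ hkπ' hkq hkq')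
  let σ : Z ⟶ Y := Z.toSpecΓ ≫ Spec.map (CommRingCat.ofHom (liftC i.appTop.hom 0 (by rw [mul_zero, hy] :
    i.appTop.hom a * 0 = i.appTop.hom b))) ≫ kT
  have hσ : σ ≫ π = i := by
    show (_ ≫ _ ≫ kT) ≫ π = i
    rw [Category.assoc, Category.assoc, hkπ, ← Spec.map_comp_assoc, ← CommRingCat.ofHom_comp,
      show (liftC i.appTop.hom 0 _).comp (cst a b) = i.appTop.hom from RingHom.ext fun r => liftC_cst _ _ _ r,
      CommRingCat.ofHom_hom, ← Scheme.toSpecΓ_naturality_assoc, show T.toSpecΓ = T.isoSpec.hom from rfl, Iso.hom_inv_id,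
      Category.comp_id]
  refine ⟨fun t s hts => ?_, 2, fun r _ hr => ?_⟩
  · obtain ⟨r, rfl⟩ := hsurj s
    refine ⟨r, ?_, rfl⟩
    let σE := pullback.lift σ (𝟙 Z) (by rw [hσ, Category.id_comp])
    have h := congrArg σE.appTop.hom hts
    rw [← CommRingCat.comp_apply, ← CommRingCat.comp_apply, ← Scheme.Hom.comp_appTop, ← Scheme.Hom.comp_appTop,
      pullback.lift_fst, pullback.lift_snd] at h
    rw [show i.appTop.hom r = σ.appTop.hom (π.appTop.hom r) by
      rw [← CommRingCat.comp_apply, ← Scheme.Hom.comp_appTop, hσ]]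
    simpa using h.symm
  · rw [pow_two]
    refine mul_eq_zero_of_charts (a := a) (b := b) ?_ ?_
    · rw [← chart_res kT π hkπ r, hr, map_zero, map_zero]
    · rw [← chart_res kT' π hkπ' r, hr, map_zero, map_zero]

end Pullback

end Groth.Agent.HTopPerf
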