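import Groth.Agent.HTopPerf.Gam
import Groth.Prelude.Def_W4stkflatp2Frob
import Groth.Prelude.Def_QuotSh

/-! The sheafified colimit of sections along Frobenius and its values on quasi-compact quasi-separated schemes. -/

set_option autoImplicit false
set_option linter.style.haveILetI false
set_option backward.isDefEq.respectTransparency false
set_option backward.isDefEq.respectTransparency.types false

universe w u
open CategoryTheory CategoryTheory.Limits AlgebraicGeometry Opposite HTop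

noncomputable section

namespace Groth.Agent.HTopPerf

open Groth.Agent.HTopSheaf

variable {p : ℕ}

theorem mk_pow {X : Scheme.{u}} (n k : ℕ) (a : Γ(X, ⊤)) :
    FrobColimSections.mk p n a = FrobColimSections.mk p (n + k) (a ^ p ^ k) := by
  induction k with
  | zero => simp
  | succ k ih =>
    rw [ih, FrobColimSections.sound p (n + k), ← pow_mul, ← pow_succ]
    rfl

theorem exists_eq_mk {X : Scheme.{u}} (c : FrobColimSections p X) :
    ∃ n a, c = FrobColimSections.mk p n a := by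
  induction c using Quot.ind with
  | mk x => exact ⟨x.1, x.2, rfl⟩

theorem exists_eq_mk_ge {X : Scheme.{u}} (c : FrobColimSections p X) :
    ∃ n, ∀ N, n ≤ N → ∃ a, c = FrobColimSections.mk p N a := by
  obtain ⟨n, a, rfl⟩ := exists_eq_mk c
  exact ⟨n, fun N hN => ⟨a ^ p ^ (N - n), by rw [mk_pow n (N - n) a, Nat.add_sub_cancel' hN]⟩⟩

theorem exists_pow_eq_of_mk_eq {X : Scheme.{u}} {x y : ℕ × Γ(X, ⊤)}
    (h : Relation.EqvGen (HTop.FrobColimRel p X) x y) :
    ∃ k l, x.1 + k = y.1 + l ∧ x.2 ^ p ^ k = y.2 ^ p ^ l := by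
  induction h with
  | rel x y h =>
    subst h
    exact ⟨1, 0, by simp, by simp⟩
  | refl x => exact ⟨0, 0, rfl, rfl⟩
  | symm x y _ ih =>
    obtain ⟨k, l, h1, h2⟩ := ih
    exact ⟨l, k, h1.symm, h2.symm⟩
  | trans x y z _ _ ih ih' =>
    obtain ⟨k, l, h1, h2⟩ := ih
    obtain ⟨k', l', h1', h2'⟩ := ih'
    refine ⟨k + k', l + l', by omega, ?_⟩
    rw [pow_add, pow_mul, h2, ← pow_mul, mul_comm, pow_mul, h2', ← pow_mul, ← pow_add, add_comm]

theorem mk_eq_mk_iff {X : Scheme.{u}} (n : ℕ) (a b : Γ(X, ⊤)) :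
    FrobColimSections.mk p n a = FrobColimSections.mk p n b ↔ ∃ k, a ^ p ^ k = b ^ p ^ k := by
  refine ⟨fun h => ?_, fun ⟨k, hk⟩ => by rw [mk_pow n k a, hk, ← mk_pow]⟩
  obtain ⟨k, l, h1, h2⟩ := exists_pow_eq_of_mk_eq (Quot.eqvGen_exact h)
  obtain rfl : k = l := Nat.add_left_cancel h1
  exact ⟨k, h2⟩

theorem pow_eq_mono {R : Type*} [CommMonoid R] {a b : R} {k k' : ℕ} (h : a ^ p ^ k = b ^ p ^ k) (hk : k ≤ k') :
    a ^ p ^ k' = b ^ p ^ k' := by
  rw [← Nat.add_sub_cancel' hk, pow_add, pow_mul, h, ← pow_mul]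

theorem map_pow_eq {R R₂ R' R'' : Type*} [CommRing R] [CommRing R₂] [CommRing R'] [CommRing R''] (G : R' →+* R'')
    (F₁ : R →+* R') (F₂ : R₂ →+* R') {a : R} {b : R₂} {q : ℕ} (h : F₁ a ^ q = F₂ b ^ q) :
    G (F₁ (a ^ q)) = G (F₂ (b ^ q)) := by
  rw [map_pow F₁, map_pow F₂, h]

variable {S : Scheme.{u}}

/-- A covering sieve on a quasi-compact scheme contains finitely many affine opens covering it. -/
theorem exists_finite_affine {X : Over S} [CompactSpace X.left] {T : Sieve X}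
    (hT : T ∈ (Scheme.zariskiTopology.over S) X) :
    ∃ s : Finset X.left.affineOpens, (∀ x, ∃ U ∈ s, x ∈ U.1) ∧ ∀ U ∈ s, T (openOverι X U.1) := by
  rw [GrothendieckTopology.mem_over_iff] at hT
  obtain ⟨𝒰, h𝒰⟩ := Scheme.mem_grothendieckTopology_iff.1 hT
  have hx : ∀ x : X.left, ∃ U : X.left.affineOpens, x ∈ U.1 ∧ T (openOverι X U.1) := fun x => by
    obtain ⟨j, y, hy⟩ := 𝒰.exists_eq x
    haveI : IsOpenImmersion (𝒰.f j) := 𝒰.map_prop j
    obtain ⟨U, hxU, hU⟩ := HTopV.affineOpens_exists_le (O := (𝒰.f j).opensRange) (x := x) ⟨y, hy⟩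
    refine ⟨U, hxU, (Sieve.overEquiv_iff T U.1.ι).1 ?_⟩
    rw [← IsOpenImmersion.lift_fac (𝒰.f j) U.1.ι (by rw [Scheme.Opens.range_ι]; exact hU)]
    exact Sieve.downward_closed _ (h𝒰 _ _ (Presieve.ofArrows.mk j)) _
  choose U hxU hTU using hx
  obtain ⟨t, ht⟩ := isCompact_univ.elim_finite_subcover (fun x : X.left => ((U x).1 : Set X.left))
    (fun x => (U x).1.2) (fun x _ => Set.mem_iUnion.mpr ⟨x, hxU x⟩)
  classical
  refine ⟨t.image U, fun x => ?_, fun V hV => ?_⟩
  · obtain ⟨i, hi, hx⟩ := Set.mem_iUnion₂.mp (ht (Set.mem_univ x))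
    exact ⟨U i, Finset.mem_image_of_mem U hi, hx⟩
  · obtain ⟨i, _, rfl⟩ := Finset.mem_image.1 hV
    exact hTU i

theorem ofArrows_finite_mem {X : Over S} (s : Finset X.left.affineOpens) (hs : ∀ x, ∃ U ∈ s, x ∈ U.1) :
    Sieve.ofArrows (fun U : s => openOver X U.1.1) (fun U => openOverι X U.1.1) ∈ (Scheme.zariskiTopology.over S) X := by
  rw [GrothendieckTopology.mem_over_iff, Sieve.overEquiv_ofArrows]
  haveI : ∀ U : s, IsOpenImmersion (openOverι X U.1.1).left := fun U => inferInstanceAs (IsOpenImmersion U.1.1.ι)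
  exact ofArrows_openImmersion_mem _ _ fun x => by
    obtain ⟨U, hU, hx⟩ := hs x
    exact ⟨⟨U, hU⟩, ⟨x, hx⟩, rfl⟩

variable (p S)

/-- The presheaf, in a larger universe. -/
abbrev colimPre : (Over S)ᵒᵖ ⥤ Type (u + 1) := HTop.frobColimPresheaf p S ⋙ uliftFunctor.{u + 1, u}

/-- Its Zariski sheafification. -/
abbrev colimSh : (Over S)ᵒᵖ ⥤ Type (u + 1) :=
  (QuotSh.J Scheme.zariskiPrecoverage S).sheafify (colimPre p S)

variable {p S}

/-- An element in the larger universe. -/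
def up (X : Over S) (c : FrobColimSections p X.left) : (colimPre p S).obj (op X) := ULift.up c

/-- The canonical map. -/
def θ (X : Over S) (c : FrobColimSections p X.left) : (colimSh p S).obj (op X) :=
  ((QuotSh.J Scheme.zariskiPrecoverage S).toSheafify (colimPre p S)).app (op X) (up X c)

theorem θ_map {X Y : Over S} (f : X ⟶ Y) (c : FrobColimSections p Y.left) :
    (colimSh p S).map f.op (θ Y c) = θ X (FrobColimSections.map p f.left c) :=
  (NatTrans.naturality_apply ((QuotSh.J Scheme.zariskiPrecoverage S).toSheafify (colimPre p S)) f.op (up Y c)).symm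

theorem isSheaf_colimSh : Presieve.IsSheaf (Scheme.zariskiTopology.over S) (colimSh p S) :=
  (isSheaf_iff_isSheaf_of_type _ _).1 ((QuotSh.J Scheme.zariskiPrecoverage S).sheafify_isSheaf (colimPre p S))

theorem θ_injective (X : Over S) [CompactSpace X.left] : Function.Injective (θ (p := p) X) := by
  intro c c' h
  obtain ⟨n, hn⟩ := exists_eq_mk_ge c
  obtain ⟨n', hn'⟩ := exists_eq_mk_ge c'
  obtain ⟨a, rfl⟩ := hn (max n n') (le_max_left _ _)
  obtain ⟨b, rfl⟩ := hn' (max n n') (le_max_right _ _)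
  have hmem := Presheaf.equalizerSieve_mem (QuotSh.J Scheme.zariskiPrecoverage S)
    ((QuotSh.J Scheme.zariskiPrecoverage S).toSheafify (colimPre p S)) (X := op X) _ _ h
  obtain ⟨s, hs, hsT⟩ := exists_finite_affine hmem
  choose k hk using fun U : s => (mk_eq_mk_iff _ _ _).1 (congrArg ULift.down (hsT U.1 U.2))
  let K := Finset.univ.sup k
  refine (mk_eq_mk_iff _ _ _).2 ⟨K, ?_⟩
  have hsh := (isSheaf_gam S Scheme.zariskiTopology).isSeparated _ (ofArrows_finite_mem s hs)
  refine hsh.ext fun Y f hf => ?_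
  obtain ⟨U, g, rfl⟩ := (Sieve.mem_ofArrows_iff _ _ f).1 hf
  show (g ≫ openOverι X U.1.1).left.appTop.hom _ = (g ≫ openOverι X U.1.1).left.appTop.hom _
  rw [Over.comp_left, appTop_comp_apply, appTop_comp_apply]
  exact map_pow_eq g.left.appTop.hom _ _ (pow_eq_mono (hk U) (Finset.le_sup (f := k) (Finset.mem_univ U)))

theorem θ_surjective (X : Over S) [CompactSpace X.left] [QuasiSeparatedSpace X.left] :
    Function.Surjective (θ (p := p) X) := by
  intro s₀
  have hmem := Presheaf.imageSieve_mem (QuotSh.J Scheme.zariskiPrecoverage S)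
    ((QuotSh.J Scheme.zariskiPrecoverage S).toSheafify (colimPre p S)) (U := op X) s₀
  obtain ⟨s, hs, hsT⟩ := exists_finite_affine hmem
  have hθ : ∀ U : s, ∃ c, θ (openOver X U.1.1) c = (colimSh p S).map (openOverι X U.1.1).op s₀ := fun U => by
    obtain ⟨c, hc⟩ := hsT U.1 U.2
    exact ⟨c.down, hc⟩
  choose c hc using hθ
  choose n hn using fun U : s => exists_eq_mk_ge (c U)
  let N := Finset.univ.sup n
  choose a ha using fun U : s => hn U N (Finset.le_sup (f := n) (Finset.mem_univ U))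
  have hov : ∀ U V : s, ∃ k,
      (Scheme.Opens.ι (U.1.1 ⊓ V.1.1) ≫ 𝟙 X.left = Scheme.Opens.ι (U.1.1 ⊓ V.1.1)) ∧
      (X.left.homOfLE (inf_le_left : U.1.1 ⊓ V.1.1 ≤ U.1.1)).appTop.hom (a U) ^ p ^ k =
        (X.left.homOfLE (inf_le_right : U.1.1 ⊓ V.1.1 ≤ V.1.1)).appTop.hom (a V) ^ p ^ k := fun U V => by
    let W := openOver X (U.1.1 ⊓ V.1.1)
    haveI : CompactSpace W.left := isCompact_iff_compactSpace.1
      (QuasiSeparatedSpace.inter_isCompact _ _ U.1.1.2 U.1.2.isCompact V.1.1.2 V.1.2.isCompact)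
    let gU : W ⟶ openOver X U.1.1 := Over.homMk (X.left.homOfLE inf_le_left) (by simp [W])
    let gV : W ⟶ openOver X V.1.1 := Over.homMk (X.left.homOfLE inf_le_right) (by simp [W])
    have e : gU ≫ openOverι X U.1.1 = gV ≫ openOverι X V.1.1 :=
      Over.OverMorphism.ext (by simp [gU, gV])
    have h' : θ W (FrobColimSections.map p gU.left (c U)) = θ W (FrobColimSections.map p gV.left (c V)) := by
      rw [← θ_map, ← θ_map, hc, hc]
      simp only [← comp_apply, ← Functor.map_comp, ← op_comp, e]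
    have h'' := θ_injective W h'
    rw [ha, ha, FrobColimSections.map_mk, FrobColimSections.map_mk] at h''
    obtain ⟨k, hk⟩ := (mk_eq_mk_iff _ _ _).1 h''
    exact ⟨k, Category.comp_id _, hk⟩
  choose k _ hk using hov
  let K := Finset.univ.sup fun U => Finset.univ.sup (k U)
  have hG := (Presieve.isSheafFor_iff_generate _).2 (isSheaf_gam S Scheme.zariskiTopology _ (ofArrows_finite_mem s hs))
  obtain ⟨d, hd, -⟩ := (Presieve.isSheafFor_arrows_iff _ _).1 hG
    (fun U : s => (show Γ((openOver X U.1.1).left, ⊤) from a U ^ p ^ K)) fun U V Z gU gV e => by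
      let l : Z.left ⟶ (U.1.1 ⊓ V.1.1).toScheme := IsOpenImmersion.lift (Scheme.Opens.ι _) (gU.left ≫ U.1.1.ι) (by
        rw [Scheme.Opens.range_ι]
        rintro _ ⟨z, rfl⟩
        refine ⟨?_, ?_⟩
        · exact (gU.left z).2
        · rw [show gU.left ≫ U.1.1.ι = gV.left ≫ V.1.1.ι from congrArg Over.Hom.left e]
          exact (gV.left z).2)
      have hlU : l ≫ X.left.homOfLE inf_le_left = gU.left := by
        rw [← cancel_mono U.1.1.ι, Category.assoc, Scheme.homOfLE_ι]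
        exact IsOpenImmersion.lift_fac _ _ _
      have hlV : l ≫ X.left.homOfLE inf_le_right = gV.left := by
        rw [← cancel_mono V.1.1.ι, Category.assoc, Scheme.homOfLE_ι]
        exact (IsOpenImmersion.lift_fac _ _ _).trans (congrArg Over.Hom.left e)
      show gU.left.appTop.hom (a U ^ p ^ K) = gV.left.appTop.hom (a V ^ p ^ K)
      rw [← hlU, ← hlV, appTop_comp_apply, appTop_comp_apply]
      exact map_pow_eq l.appTop.hom _ _ (pow_eq_mono (hk U V)
        ((Finset.le_sup (f := k U) (Finset.mem_univ V)).trans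
          (Finset.le_sup (f := fun U => Finset.univ.sup (k U)) (Finset.mem_univ U))))
  obtain ⟨d, rfl⟩ : ∃ z : Γ(X.left, ⊤), z = d := ⟨d, rfl⟩
  refine ⟨FrobColimSections.mk p (N + K) d, ((isSheaf_colimSh (p := p) (S := S)).isSeparated _ (ofArrows_finite_mem s hs)).ext
    fun Y f hf => ?_⟩
  obtain ⟨U, g, rfl⟩ := (Sieve.mem_ofArrows_iff _ _ f).1 hf
  rw [op_comp, Functor.map_comp, comp_apply, comp_apply]
  refine congrArg _ ?_
  rw [θ_map, ← hc U, ha U, mk_pow N K (a U), FrobColimSections.map_mk]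
  exact congrArg (fun z => θ _ (FrobColimSections.mk p (N + K) z)) (hd U)

theorem θ_bijective (X : Over S) [CompactSpace X.left] [QuasiSeparatedSpace X.left] :
    Function.Bijective (θ (p := p) X) :=
  ⟨θ_injective X, θ_surjective X⟩

theorem flat_colim (X Y : Over S) (f : X ⟶ Y) (hY : IsAffine Y.left) (h2 : Surjective f.left) (h3 : Flat f.left)
    (h4 : IsProper f.left) : Presieve.IsSheafFor (colimSh p S) (Presieve.singleton f) := by
  haveI := hY; haveI := h2; haveI := h3; haveI := h4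
  haveI : CompactSpace X.left := QuasiCompact.compactSpace_of_compactSpace f.left
  haveI : QuasiSeparatedSpace X.left := quasiSeparatedSpace_of_quasiSeparated f.left
  have hG := isSheafFor_gam_singleton S f
  rw [Presieve.isSheafFor_singleton] at hG ⊢
  intro x hx
  obtain ⟨c, rfl⟩ := θ_surjective X x
  obtain ⟨n, a, rfl⟩ := exists_eq_mk c
  let P : Over S := Over.mk (pullback.fst f.left f.left ≫ X.hom)
  let p₁ : P ⟶ X := Over.homMk (pullback.fst f.left f.left) rfl
  let p₂ : P ⟶ X := Over.homMk (pullback.snd f.left f.left) (by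
    show pullback.snd f.left f.left ≫ X.hom = pullback.fst f.left f.left ≫ X.hom
    rw [← Over.w f, pullback.condition_assoc])
  haveI : CompactSpace P.left := QuasiCompact.compactSpace_of_compactSpace (pullback.fst f.left f.left)
  have h := hx p₁ p₂ (Over.OverMorphism.ext pullback.condition)
  rw [θ_map, θ_map] at h
  obtain ⟨k, hk⟩ := (mk_eq_mk_iff _ _ _).1 (θ_injective P h)
  obtain ⟨y, hy, -⟩ := hG (show Γ(X.left, ⊤) from a ^ p ^ k) fun {Z} q₁ q₂ e => by
    let l : Z.left ⟶ pullback f.left f.left := pullback.lift q₁.left q₂.left (congrArg Over.Hom.left e)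
    show q₁.left.appTop.hom (a ^ p ^ k) = q₂.left.appTop.hom (a ^ p ^ k)
    rw [← pullback.lift_fst q₁.left q₂.left (congrArg Over.Hom.left e)]
    conv_rhs => rw [← pullback.lift_snd q₁.left q₂.left (congrArg Over.Hom.left e)]
    rw [appTop_comp_apply, appTop_comp_apply]
    exact map_pow_eq l.appTop.hom _ _ hk
  obtain ⟨y, rfl⟩ : ∃ z : Γ(Y.left, ⊤), z = y := ⟨y, rfl⟩
  refine ⟨θ Y (FrobColimSections.mk p (n + k) y), ?_, fun y' hy' => ?_⟩
  · show (colimSh p S).map f.op (θ Y _) = _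
    rw [θ_map, mk_pow n k a, FrobColimSections.map_mk]
    exact congrArg (fun z => θ _ (FrobColimSections.mk p (n + k) z)) hy
  · obtain ⟨c', rfl⟩ := θ_surjective Y y'
    obtain ⟨m, hm⟩ := exists_eq_mk_ge c'
    obtain ⟨b, rfl⟩ := hm (max m (n + k)) (le_max_left _ _)
    obtain ⟨d, hd⟩ : ∃ d, max m (n + k) = n + k + d := ⟨_, (Nat.add_sub_cancel' (le_max_right _ _)).symm⟩
    refine congrArg (θ Y) ?_
    rw [mk_pow (n + k) d, ← hd, mk_eq_mk_iff]
    rw [θ_map, mk_pow n (k + d), ← add_assoc, ← hd, FrobColimSections.map_mk] at hy'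
    obtain ⟨l, hl⟩ := (mk_eq_mk_iff _ _ _).1 (θ_injective X hy')
    refine ⟨l, (hG (f.left.appTop.hom (b ^ p ^ l)) fun {Z} q₁ q₂ e => ?_).unique rfl ?_⟩
    · show q₁.left.appTop.hom (f.left.appTop.hom _) = q₂.left.appTop.hom (f.left.appTop.hom _)
      rw [← appTop_comp_apply, ← appTop_comp_apply, ← Over.comp_left, ← Over.comp_left, e]
    · show f.left.appTop.hom ((y ^ p ^ d) ^ p ^ l) = f.left.appTop.hom (b ^ p ^ l)
      rw [map_pow, map_pow, map_pow, show f.left.appTop.hom y = a ^ p ^ k from hy, hl, pow_add, pow_mul]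

/-- The sheafified colimit satisfies the conditions. -/
theorem perf_colim (hp : p.Prime) (hS : (p : Γ(S, ⊤)) = 0) : Perf (colimSh p S) where
  zar := isSheaf_colimSh
  flat X Y f h1 h2 h3 h4 _ := flat_colim X Y f h1 h2 h3 h4
  cart E Z X' X e π b i _ hX h1 h2 h3 h4 h5 h6 hsq t s' h := by
    haveI := hX; haveI := h1; haveI := h2; haveI := h3; haveI := h4; haveI := h5; haveI := h6
    obtain ⟨t, rfl⟩ := θ_surjective Z t
    obtain ⟨s', rfl⟩ := θ_surjective X' s'
    obtain ⟨n, hn⟩ := exists_eq_mk_ge t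
    obtain ⟨n', hn'⟩ := exists_eq_mk_ge s'
    obtain ⟨τ, rfl⟩ := hn (max n n') (le_max_left _ _)
    obtain ⟨σ, rfl⟩ := hn' (max n n') (le_max_right _ _)
    generalize max n n' = M at h ⊢
    rw [θ_map, θ_map] at h
    obtain ⟨k, hk⟩ := (mk_eq_mk_iff _ _ _).1 (θ_injective E h)
    obtain ⟨r, hr₁, hr₂⟩ := hsq.lift (τ ^ p ^ k) (σ ^ p ^ k) (by rw [map_pow, map_pow]; exact hk)
    refine ⟨θ X (FrobColimSections.mk p (M + k) r), ⟨?_, ?_⟩, fun y hy => ?_⟩
    · rw [θ_map, FrobColimSections.map_mk, hr₁, ← mk_pow]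
    · rw [θ_map, FrobColimSections.map_mk, hr₂, ← mk_pow]
    obtain ⟨c, rfl⟩ := θ_surjective X y
    obtain ⟨m, hm⟩ := exists_eq_mk_ge c
    obtain ⟨q, rfl⟩ := hm (max m (M + k)) (le_max_left _ _)
    obtain ⟨d, hd⟩ : ∃ d, max m (M + k) = M + k + d := ⟨_, (Nat.add_sub_cancel' (le_max_right _ _)).symm⟩
    refine congrArg (θ X) ?_
    rw [mk_pow (M + k) d, ← hd, mk_eq_mk_iff]
    obtain ⟨hy₁, hy₂⟩ := hy
    rw [θ_map, mk_pow M (k + d), ← add_assoc, ← hd, FrobColimSections.map_mk] at hy₁ hy₂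
    obtain ⟨l₁, hl₁⟩ := (mk_eq_mk_iff _ _ _).1 (θ_injective Z hy₁)
    obtain ⟨l₂, hl₂⟩ := (mk_eq_mk_iff _ _ _).1 (θ_injective X' hy₂)
    obtain ⟨N, hN⟩ := hsq.nil
    let L := max l₁ l₂
    refine ⟨L + N, ?_⟩
    rw [pow_add, pow_mul, pow_mul]
    refine pow_q_eq_of_sub_pow hp (natCast_eq_zero hS X) (n := N) (hN _ ?_ ?_) (Nat.lt_pow_self hp.one_lt).le
    · rw [map_sub, map_pow, map_pow, map_pow, hr₁, ← pow_mul τ, ← pow_add,
        pow_eq_mono hl₁ (le_max_left _ _), sub_self]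
    · rw [map_sub, map_pow, map_pow, map_pow, hr₂, ← pow_mul σ, ← pow_add,
        pow_eq_mono hl₂ (le_max_right _ _), sub_self]

end Groth.Agent.HTopPerf
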