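import Groth.Agent.HTopPerf.Blow

/-! Presheaves cartesian up to nilpotents satisfy h descent. -/

set_option autoImplicit false
set_option linter.style.haveILetI false
set_option backward.isDefEq.respectTransparency false
set_option backward.isDefEq.respectTransparency.types false

universe w u
open CategoryTheory CategoryTheory.Limits AlgebraicGeometry Opposite

noncomputable section

namespace Groth.Agent.HTopPerf

open Groth.Agent.HTopAlm Groth.Agent.BlowChartLib

variable {S : Scheme.{u}} {F : (Over S)ᵒᵖ ⥤ Type w}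

theorem secHom_comp {A B : Type u} [CommRing A] [CommRing B] (φ : A →+* B) {T : Scheme.{u}}
    (a : T ⟶ Spec (CommRingCat.of B)) (z : A) :
    secHom (a ≫ Spec.map (CommRingCat.ofHom φ)) ⊤ z = secHom a ⊤ (φ z) := by
  have h : ∀ {C : Type u} [CommRing C] (g : T ⟶ Spec (CommRingCat.of C)),
      secHom g ⊤ = ((Scheme.ΓSpecIso (CommRingCat.of C)).inv ≫ g.appTop).hom := fun g => by
    rw [secHom]; simp [Scheme.Hom.appLE]
  rw [h, h, show (a ≫ Spec.map (CommRingCat.ofHom φ)).appTop =
    (Spec.map (CommRingCat.ofHom φ)).appTop ≫ a.appTop from Scheme.Hom.comp_appTop _ _, ← Category.assoc,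
    ← Scheme.ΓSpecIso_inv_naturality]
  rfl

/-- Making a two generated ideal principal. -/
theorem principal (hF : Perf F) (A : CommRingCat.{u}) (c₁ c₂ : A) :
    ∃ (B : Scheme.{u}) (b : B ⟶ Spec A),
      IsProper b ∧ HTop.IsLocPrincipal ((Curv2.idealSheaf A (Ideal.span {c₁, c₂})).comap b) ∧
      CovFam F (ι := Bool) (E := fun t => bif t then Spec (CommRingCat.of (A ⧸ Ideal.span {c₁, c₂})) else B)
        (fun t => match t with
          | true => Spec.map (CommRingCat.ofHom (Ideal.Quotient.mk (Ideal.span {c₁, c₂})))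
          | false => b) := by
  obtain ⟨B, p, j, j', hp, hpl, hj, hj', hov, hcov⟩ := exists_universal.{u}
  haveI := hp
  let φ : A₀.{u} →+* A :=
    MvPolynomial.eval₂Hom ((Int.castRingHom A).comp ULift.ringEquiv.toRingHom) ![c₁, c₂]
  have hφx : φ xv = c₁ := by simp [φ, xv]
  have hφy : φ yv = c₂ := by simp [φ, yv]
  let g : Spec A ⟶ Spec (CommRingCat.of A₀.{u}) := Spec.map (CommRingCat.ofHom φ)
  let b := pullback.snd p g
  have hker : Curv2.idealSheaf A (Ideal.span {c₁, c₂}) = (Curv2.idealSheaf A₀.{u} (Ideal.span {xv, yv})).comap g := by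
    refine Scheme.IdealSheafData.ext_of_isAffine ?_
    rw [ideal_comap_idealSheaf g _ ⟨⊤, isAffineOpen_top _⟩]
    have h1 : secHom g ⊤ = (Scheme.ΓSpecIso A).inv.hom.comp φ := RingHom.ext fun z => by
      rw [show g = 𝟙 _ ≫ Spec.map (CommRingCat.ofHom φ) from (Category.id_comp g).symm, secHom_comp]
      simp [secHom, Scheme.Hom.appLE]
      rfl
    rw [h1, Ideal.map_span, Curv2.idealSheaf, Scheme.IdealSheafData.ofIdealTop_ideal]
    simp only [homOfLE_refl, op_id, CategoryTheory.Functor.map_id, CommRingCat.hom_id, Ideal.map_id, Ideal.map_span,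
      Set.image_pair, RingHom.comp_apply, hφx, hφy]
    rfl
  refine ⟨pullback p g, b, inferInstance, ?_, ?_⟩
  · rw [hker, ← Scheme.IdealSheafData.comap_comp,
      show b ≫ g = pullback.fst p g ≫ p from pullback.condition.symm, Scheme.IdealSheafData.comap_comp]
    exact isLocPrincipal_comap hpl _
  let i := Spec.map (CommRingCat.ofHom (Ideal.Quotient.mk (Ideal.span ({c₁, c₂} : Set A))))
  haveI : IsClosedImmersion i := IsClosedImmersion.spec_of_surjective _ Ideal.Quotient.mk_surjective
  refine covFam_pair hF i b fun T' a hT => ?_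
  haveI := hT
  have hY : IsPullback (pullback.fst b a ≫ pullback.fst p g) (pullback.snd b a) p (a ≫ g) :=
    (IsPullback.of_hasPullback b a).paste_horiz (IsPullback.of_hasPullback p g)
  have hk : ∀ z ∈ Ideal.span ({c₁, c₂} : Set A), (pullback.snd i a).appTop.hom (secHom a ⊤ z) = 0 := fun z hz =>
    RingHom.mem_ker.1 ((ker_appTop i _ (ker_specMap_mk _) a).ge (Ideal.mem_map_of_mem _ hz))
  refine secSquare_blow hj hj' hov hcov hY _ ?_ ?_
  · rw [secHom_comp, hφx]; exact hk _ (Ideal.subset_span (Set.mem_insert _ _))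
  · rw [secHom_comp, hφy]; exact hk _ (Ideal.subset_span (Set.mem_insert_of_mem _ rfl))

/-- The reduction conditions. -/
theorem Perf.desc (hF : Perf F) : Desc F where
  zar := hF.zar
  flat := hF.flat
  kill A _ c := HTopPerf.kill hF A c
  principal A _ c₁ c₂ := HTopPerf.principal hF A c₁ c₂

/-- h descent. -/
theorem Perf.isSheaf (hF : Perf F) : Presieve.IsSheaf (HTop.Jh S) F :=
  isSheaf_of_desc hF.desc

end Groth.Agent.HTopPerf
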