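import Groth.Agent.HTopPerf.Gam
import Groth.Prelude.Def_W4stkflatFrob

/-! The inverse limit of sections along Frobenius is an h sheaf. -/

set_option autoImplicit false
set_option linter.style.haveILetI false
set_option backward.isDefEq.respectTransparency false
set_option backward.isDefEq.respectTransparency.types false

universe w u
open CategoryTheory CategoryTheory.Limits AlgebraicGeometry Opposite

noncomputable section

namespace Groth.Agent.HTopPerf

variable {S : Scheme.{u}} {p : ℕ}

theorem frobLim_iterate {X : Scheme.{u}} (a : HTop.FrobLimSections p X) (n k : ℕ) : a.1 (n + k) ^ p ^ k = a.1 n := by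
  induction k generalizing n with
  | zero => simp
  | succ k ih =>
    rw [pow_succ', pow_mul, show n + (k + 1) = (n + k) + 1 from rfl, a.2 (n + k)]
    exact ih n

theorem isSheafFor_frobLim {X : Over S} {R : Presieve X} (h : Presieve.IsSheafFor (Gam S) R) :
    Presieve.IsSheafFor (HTop.frobLimPresheaf p S) R := by
  intro x hx
  have hc : ∀ n, Presieve.FamilyOfElements.Compatible (P := Gam S) (fun Y f (hf : R f) => (x f hf).1 n) :=
    fun n Y₁ Y₂ Z g₁ g₂ f₁ f₂ h₁ h₂ e => congrArg (fun a : HTop.FrobLimSections p Z.left => a.1 n) (hx g₁ g₂ h₁ h₂ e)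
  choose y hy huniq using fun n => h _ (hc n)
  have hpow : ∀ n, (show Γ(X.left, ⊤) from y (n + 1)) ^ p = (show Γ(X.left, ⊤) from y n) := fun n => by
    refine huniq n ((show Γ(X.left, ⊤) from y (n + 1)) ^ p) fun Y f hf => ?_
    show f.left.appTop.hom ((show Γ(X.left, ⊤) from y (n + 1)) ^ p) = (x f hf).1 n
    rw [map_pow, show f.left.appTop.hom (show Γ(X.left, ⊤) from y (n + 1)) = (x f hf).1 (n + 1) from hy (n + 1) f hf,
      (x f hf).2 n]
  refine ⟨⟨fun n => y n, hpow⟩, fun Y f hf => HTop.FrobLimSections.ext fun n => hy n f hf, fun a ha => ?_⟩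
  refine HTop.FrobLimSections.ext fun n => huniq n (a.1 n) fun Y f hf => ?_
  exact congrArg (fun b : HTop.FrobLimSections p Y.left => b.1 n) (ha f hf)

theorem perf_frobLim (hp : p.Prime) (hS : (p : Γ(S, ⊤)) = 0) : Perf (HTop.frobLimPresheaf p S) where
  zar X T hT := isSheafFor_frobLim (isSheaf_gam S Scheme.zariskiTopology T hT)
  flat X Y f _ h2 h3 h4 _ := by
    haveI := h2; haveI := h3; haveI := h4
    exact isSheafFor_frobLim (isSheafFor_gam_singleton S f)
  cart E Z X' X e π b i _ _ _ _ _ _ _ _ hsq t s' h := by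
    obtain ⟨N, hN⟩ := hsq.nil
    choose r hr₁ hr₂ using fun n => hsq.lift (t.1 n) (s'.1 n)
      (congrArg (fun a : HTop.FrobLimSections p E.left => a.1 n) h)
    have hX := natCast_eq_zero hS X
    have hk : N ≤ p ^ N := (Nat.lt_pow_self hp.one_lt).le
    have heq : ∀ x y : Γ(X.left, ⊤), i.left.appTop.hom x = i.left.appTop.hom y →
        b.left.appTop.hom x = b.left.appTop.hom y → x ^ p ^ N = y ^ p ^ N := fun x y h₁ h₂ =>
      pow_q_eq_of_sub_pow hp hX (hN _ (by rw [map_sub, h₁, sub_self]) (by rw [map_sub, h₂, sub_self])) hk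
    have hy : ∀ m, (r (m + 1 + N) ^ p ^ N) ^ p = r (m + N) ^ p ^ N := fun m => by
      rw [← pow_mul, mul_comm, pow_mul]
      refine heq _ _ ?_ ?_
      · rw [map_pow, hr₁, hr₁, show m + 1 + N = m + N + 1 from by omega, t.2]
      · rw [map_pow, hr₂, hr₂, show m + 1 + N = m + N + 1 from by omega, s'.2]
    refine ⟨⟨fun m => r (m + N) ^ p ^ N, hy⟩, ⟨HTop.FrobLimSections.ext fun m => ?_,
      HTop.FrobLimSections.ext fun m => ?_⟩, fun a ha => HTop.FrobLimSections.ext fun m => ?_⟩
    · show i.left.appTop.hom (r (m + N) ^ p ^ N) = t.1 m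
      rw [map_pow, hr₁, frobLim_iterate]
    · show b.left.appTop.hom (r (m + N) ^ p ^ N) = s'.1 m
      rw [map_pow, hr₂, frobLim_iterate]
    · show a.1 m = r (m + N) ^ p ^ N
      rw [← frobLim_iterate a m N]
      refine heq _ _ ?_ ?_
      · rw [hr₁]
        exact congrArg (fun c : HTop.FrobLimSections p Z.left => c.1 (m + N)) ha.1
      · rw [hr₂]
        exact congrArg (fun c : HTop.FrobLimSections p X'.left => c.1 (m + N)) ha.2

end Groth.Agent.HTopPerf
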