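import Groth.Agent.HTopPerf.Desc
import Mathlib.AlgebraicGeometry.Sites.Fpqc

/-! Global sections on schemes over a base as a sheaf, and the Frobenius on them. -/

set_option autoImplicit false
set_option linter.style.haveILetI false
set_option backward.isDefEq.respectTransparency false
set_option backward.isDefEq.respectTransparency.types false

universe w u
open CategoryTheory CategoryTheory.Limits AlgebraicGeometry Opposite

noncomputable section

namespace Groth.Agent.HTopPerf

open Groth.Agent.HTopSheaf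

variable (S : Scheme.{u})

/-- Global sections. -/
def Gam : (Over S)ᵒᵖ ⥤ Type u := (Over.forget S).op ⋙ Scheme.Γ ⋙ forget CommRingCat.{u}

/-- The ring of polynomials in one variable over the integers. -/
abbrev Z1 : CommRingCat.{u} := CommRingCat.of (Polynomial (ULift.{u} ℤ))

/-- Sections as maps to the affine line. -/
def gamEquiv (X : Scheme.{u}) : Γ(X, ⊤) ≃ (X ⟶ Spec Z1.{u}) where
  toFun r := X.toSpecΓ ≫ Spec.map (CommRingCat.ofHom
    (Polynomial.eval₂RingHom ((Int.castRingHom Γ(X, ⊤)).comp ULift.ringEquiv.toRingHom) r))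
  invFun m := m.appTop.hom ((Scheme.ΓSpecIso Z1.{u}).inv.hom Polynomial.X)
  left_inv r := by
    show (X.toSpecΓ ≫ Spec.map _).appTop.hom _ = r
    rw [Scheme.Hom.comp_appTop, CommRingCat.hom_comp, RingHom.comp_apply, Scheme.toSpecΓ_appTop]
    have h := fun (φ : Z1.{u} ⟶ Γ(X, ⊤)) => ConcreteCategory.congr_hom (Scheme.ΓSpecIso_naturality φ)
      ((Scheme.ΓSpecIso Z1.{u}).inv.hom Polynomial.X)
    refine (h _).trans ?_
    simp
  right_inv m := by
    obtain ⟨φ, rfl⟩ : ∃ φ : Z1.{u} ⟶ Γ(X, ⊤), X.toSpecΓ ≫ Spec.map φ = m :=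
      ⟨(Scheme.ΓSpecIso Z1.{u}).inv ≫ m.appTop, by
        rw [Spec.map_comp, ← Scheme.toSpecΓ_naturality_assoc, ← SpecMap_ΓSpecIso_hom, ← Spec.map_comp,
          Iso.inv_hom_id, Spec.map_id, Category.comp_id]⟩
    refine congrArg (X.toSpecΓ ≫ Spec.map ·) (CommRingCat.hom_ext (Polynomial.ringHom_ext (fun z => ?_) ?_))
    · obtain ⟨n⟩ := z
      refine RingHom.congr_fun ((RingHom.ext_int : ∀ f g : ℤ →+* Γ(X, ⊤), f = g)
        (((Polynomial.eval₂RingHom _ _).comp Polynomial.C).comp ULift.ringEquiv.symm.toRingHom)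
        ((φ.hom.comp Polynomial.C).comp ULift.ringEquiv.symm.toRingHom)) n
    · rw [CommRingCat.hom_ofHom, Polynomial.coe_eval₂RingHom, Polynomial.eval₂_X]
      show (X.toSpecΓ ≫ Spec.map φ).appTop.hom _ = _
      rw [Scheme.Hom.comp_appTop, CommRingCat.hom_comp, RingHom.comp_apply, Scheme.toSpecΓ_appTop]
      refine (ConcreteCategory.congr_hom (Scheme.ΓSpecIso_naturality φ) _).trans ?_
      simp

theorem gamEquiv_naturality {X Y : Scheme.{u}} (f : X ⟶ Y) (r : Γ(Y, ⊤)) :
    gamEquiv X (f.appTop.hom r) = f ≫ gamEquiv Y r := by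
  apply (gamEquiv X).symm.injective
  rw [Equiv.symm_apply_apply]
  show _ = (f ≫ gamEquiv Y r).appTop.hom _
  rw [Scheme.Hom.comp_appTop]
  exact congrArg f.appTop.hom ((gamEquiv Y).symm_apply_apply r).symm

/-- Global sections are maps to the affine line. -/
def gamIso : Gam S ≅ (Over.forget S).op ⋙ yoneda.obj (Spec Z1.{u}) :=
  NatIso.ofComponents (fun X => Equiv.toIso (gamEquiv X.unop.left))
    fun {X Y} f => by ext r; exact gamEquiv_naturality f.unop.left r

theorem isSheaf_gam (K : GrothendieckTopology Scheme.{u}) [K.Subcanonical] : Presieve.IsSheaf (K.over S) (Gam S) := by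
  refine Presieve.isSheaf_iso _ (gamIso S).symm ?_
  exact (isSheaf_iff_isSheaf_of_type _ _).1 (Functor.op_comp_isSheaf (Over.forget S) (K.over S) K
    ⟨yoneda.obj (Spec Z1.{u}), (isSheaf_iff_isSheaf_of_type _ _).2
      (GrothendieckTopology.Subcanonical.isSheaf_of_isRepresentable _)⟩)

theorem isSheafFor_gam_singleton {X Y : Over S} (f : X ⟶ Y) [Flat f.left] [Surjective f.left] [QuasiCompact f.left] :
    Presieve.IsSheafFor (Gam S) (Presieve.singleton f) := by
  refine (Presieve.isSheafFor_iff_generate _).2 (isSheaf_gam S Scheme.fpqcTopology _ ?_)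
  rw [GrothendieckTopology.mem_over_iff, overEquiv_generate_presieve, Presieve.map_singleton]
  exact Precoverage.generate_mem_toGrothendieck (Scheme.Hom.singleton_mem_fpqcPrecoverage f.left)

variable {S} {p : ℕ} (hp : p.Prime) (hS : (p : Γ(S, ⊤)) = 0)
include hS

theorem natCast_eq_zero (X : Over S) : (p : Γ(X.left, ⊤)) = 0 := by
  rw [← map_natCast X.hom.appTop.hom p, hS, map_zero]

omit hS
include hp

theorem add_pow_q {R : Type*} [CommRing R] (h : (p : R) = 0) (x y : R) (k : ℕ) :
    (x + y) ^ p ^ k = x ^ p ^ k + y ^ p ^ k := by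
  induction k with
  | zero => simp
  | succ k ih =>
    obtain ⟨r, hr⟩ := exists_add_pow_prime_eq hp (x ^ p ^ k) (y ^ p ^ k)
    rw [pow_succ, pow_mul, ih, pow_mul, pow_mul, hr, h]
    ring

theorem pow_q_eq_of_sub_pow {R : Type*} [CommRing R] (h : (p : R) = 0) {x y : R} {n : ℕ} (hn : (x - y) ^ n = 0)
    {k : ℕ} (hk : n ≤ p ^ k) : x ^ p ^ k = y ^ p ^ k := by
  rw [← sub_add_cancel x y, add_pow_q hp h, pow_eq_zero_of_le hk hn, zero_add]

end Groth.Agent.HTopPerf
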