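import Groth.Agent.HTopAlm.Cov

/-! Presheaves cartesian on squares whose sections are cartesian up to nilpotents. -/

set_option autoImplicit false
set_option linter.style.haveILetI false
set_option backward.isDefEq.respectTransparency false
set_option backward.isDefEq.respectTransparency.types false

universe w u
open CategoryTheory CategoryTheory.Limits AlgebraicGeometry Opposite

noncomputable section

namespace Groth.Agent.HTopPerf

open Groth.Agent.HTopSheaf Groth.Agent.HTopAlm

/-- The global sections form a cartesian square up to nilpotents. -/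
structure SecSquare {E Z X' X : Scheme.{u}} (e : E ⟶ X') (π : E ⟶ Z) (b : X' ⟶ X) (i : Z ⟶ X) : Prop where
  lift : ∀ (t : Γ(Z, ⊤)) (s : Γ(X', ⊤)), π.appTop.hom t = e.appTop.hom s →
    ∃ r, i.appTop.hom r = t ∧ b.appTop.hom r = s
  nil : ∃ n : ℕ, ∀ r, i.appTop.hom r = 0 → b.appTop.hom r = 0 → r ^ n = 0

variable {S : Scheme.{u}}

/-- Zariski descent, flat proper descent, and the cartesian condition for squares with cartesian sections up to
nilpotents. -/
structure Perf (F : (Over S)ᵒᵖ ⥤ Type w) : Prop where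
  zar : Presieve.IsSheaf (Scheme.zariskiTopology.over S) F
  flat : ∀ (X Y : Over S) (f : X ⟶ Y), IsAffine Y.left → Surjective f.left → Flat f.left → IsProper f.left →
    LocallyOfFinitePresentation f.left → Presieve.IsSheafFor F (Presieve.singleton f)
  cart : ∀ (E Z X' X : Over S) (e : E ⟶ X') (π : E ⟶ Z) (b : X' ⟶ X) (i : Z ⟶ X), π ≫ i = e ≫ b →
    IsAffine X.left → CompactSpace X'.left → QuasiSeparatedSpace X'.left → CompactSpace Z.left →
    QuasiSeparatedSpace Z.left → CompactSpace E.left → QuasiSeparatedSpace E.left →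
    SecSquare e.left π.left b.left i.left →
    ∀ (t : F.obj (op Z)) (s' : F.obj (op X')), F.map π.op t = F.map e.op s' →
      ∃! s : F.obj (op X), F.map i.op s = t ∧ F.map b.op s = s'

variable {F : (Over S)ᵒᵖ ⥤ Type w} (hF : Perf F)
include hF

/-- Two quasi-compact separated morphisms whose base changes to affine schemes have cartesian sections up to
nilpotents cover. -/
theorem covFam_pair {T Z B : Scheme.{u}} (i : Z ⟶ T) (b : B ⟶ T) [QuasiCompact i] [IsSeparated i] [QuasiCompact b]
    [IsSeparated b]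
    (H : ∀ (T' : Scheme.{u}) (a : T' ⟶ T), IsAffine T' →
      SecSquare (pullback.fst (pullback.snd b a) (pullback.snd i a)) (pullback.snd (pullback.snd b a) (pullback.snd i a))
        (pullback.snd b a) (pullback.snd i a)) :
    CovFam F (ι := Bool) (E := fun c => bif c then Z else B) (fun c => match c with | true => i | false => b) := by
  intro W a _
  refine mem_fin_of_base hF.zar (hasBase_over S) _ fun U g hU => ?_
  haveI : IsAffine U.left := hU
  rw [pullback_liftSieve]
  let a' := g.left ≫ a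
  let Zw : Over S := Over.mk (pullback.snd i a' ≫ U.hom)
  let Xw : Over S := Over.mk (pullback.snd b a' ≫ U.hom)
  let Ew : Over S := Over.mk (pullback.snd (pullback.snd b a') (pullback.snd i a') ≫ Zw.hom)
  let i₁ : Zw ⟶ U := Over.homMk (pullback.snd i a') rfl
  let b₁ : Xw ⟶ U := Over.homMk (pullback.snd b a') rfl
  let e₁ : Ew ⟶ Xw := Over.homMk (pullback.fst (pullback.snd b a') (pullback.snd i a')) (by
    simp [Ew, Xw, Zw, pullback.condition_assoc])
  let π₁ : Ew ⟶ Zw := Over.homMk (pullback.snd (pullback.snd b a') (pullback.snd i a')) rfl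
  haveI : CompactSpace ↥(pullback i a') := QuasiCompact.compactSpace_of_compactSpace (pullback.snd i a')
  haveI : CompactSpace ↥(pullback b a') := QuasiCompact.compactSpace_of_compactSpace (pullback.snd b a')
  haveI : QuasiSeparatedSpace ↥(pullback i a') := quasiSeparatedSpace_of_quasiSeparated (pullback.snd i a')
  haveI : QuasiSeparatedSpace ↥(pullback b a') := quasiSeparatedSpace_of_quasiSeparated (pullback.snd b a')
  haveI : CompactSpace ↥(pullback (pullback.snd b a') (pullback.snd i a')) :=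
    QuasiCompact.compactSpace_of_compactSpace (pullback.fst (pullback.snd b a') (pullback.snd i a'))
  haveI : QuasiSeparatedSpace ↥(pullback (pullback.snd b a') (pullback.snd i a')) :=
    quasiSeparatedSpace_of_quasiSeparated (pullback.fst (pullback.snd b a') (pullback.snd i a'))
  have hcomm : π₁ ≫ i₁ = e₁ ≫ b₁ := Over.OverMorphism.ext pullback.condition.symm
  let R := liftSieve (ι := Bool) (E := fun c => bif c then Z else B) (fun c => match c with | true => i | false => b) U a'
  have hi₁ : R i₁ := ⟨true, pullback.fst i a', pullback.condition⟩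
  have hb₁ : R b₁ := ⟨false, pullback.fst b a', pullback.condition⟩
  intro x hx
  obtain ⟨s, ⟨hs1, hs2⟩, huniq⟩ := hF.cart Ew Zw Xw U e₁ π₁ b₁ i₁ hcomm hU ‹_› ‹_› ‹_› ‹_› ‹_› ‹_›
    (H U.left a' hU) (x i₁ hi₁) (x b₁ hb₁) (hx π₁ e₁ hi₁ hb₁ hcomm)
  refine ⟨s, fun V m hm => ?_, fun s₁ hs₁ => huniq s₁ ⟨hs₁ i₁ hi₁, hs₁ b₁ hb₁⟩⟩
  obtain ⟨j, v, hv⟩ := id hm
  cases j
  · let k : V ⟶ Xw := Over.homMk (pullback.lift v m.left hv) (by
      show _ ≫ pullback.snd b a' ≫ U.hom = _
      rw [pullback.lift_snd_assoc, Over.w m])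
    have hk : m = k ≫ b₁ := Over.OverMorphism.ext (pullback.lift_snd _ _ _).symm
    rw [show F.map m.op s = F.map k.op (F.map b₁.op s) by rw [← comp_apply, ← Functor.map_comp, ← op_comp, ← hk], hs2]
    exact ((hx k (𝟙 V) hb₁ hm (by rw [Category.id_comp, ← hk])).trans (by simp))
  · let k : V ⟶ Zw := Over.homMk (pullback.lift v m.left hv) (by
      show _ ≫ pullback.snd i a' ≫ U.hom = _
      rw [pullback.lift_snd_assoc, Over.w m])
    have hk : m = k ≫ i₁ := Over.OverMorphism.ext (pullback.lift_snd _ _ _).symm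
    rw [show F.map m.op s = F.map k.op (F.map i₁.op s) by rw [← comp_apply, ← Functor.map_comp, ← op_comp, ← hk], hs1]
    exact ((hx k (𝟙 V) hi₁ hm (by rw [Category.id_comp, ← hk])).trans (by simp))

omit hF

/-- The kernel on sections of a closed subscheme of an affine scheme. -/
theorem ker_appTop {A : Type u} [CommRing A] {Z T' : Scheme.{u}} [IsAffine T'] (i : Z ⟶ Spec (CommRingCat.of A))
    [IsClosedImmersion i] (I : Ideal A) (hi : i.ker = Curv2.idealSheaf A I) (a : T' ⟶ Spec (CommRingCat.of A)) :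
    RingHom.ker (pullback.snd i a).appTop.hom = I.map (BlowChartLib.secHom a ⊤) := by
  have h1 : (pullback.snd i a).ker = i.ker.comap a := by
    rw [← Scheme.IdealSheafData.ker_fst_of_isClosedImmersion i a, ← pullbackSymmetry_hom_comp_fst,
      Scheme.Hom.ker_comp_of_isIso]
  rw [hi] at h1
  have h2 := congrArg (fun K : T'.IdealSheafData => K.ideal ⟨⊤, isAffineOpen_top _⟩) h1
  simp only [BlowChartLib.ideal_comap_idealSheaf, Scheme.ker_of_isAffine,
    Scheme.IdealSheafData.ofIdealTop_ideal] at h2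
  simpa using h2

/-- Sections on a closed subscheme of an affine scheme lift. -/
theorem appTop_surjective {Z T : Scheme.{u}} [IsAffine T] (i : Z ⟶ T) [IsClosedImmersion i] :
    Function.Surjective i.appTop.hom :=
  (IsClosedImmersion.hasAffineProperty.iff_of_isAffine.1 ‹IsClosedImmersion i›).2

/-- Two closed subschemes of an affine scheme whose ideals have nil intersection. -/
theorem secSquare_closed {Z B T : Scheme.{u}} [IsAffine T] (i : Z ⟶ T) (b : B ⟶ T) [IsClosedImmersion i]
    [IsClosedImmersion b] (hn : ∃ n : ℕ, ∀ r, i.appTop.hom r = 0 → b.appTop.hom r = 0 → r ^ n = 0) :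
    SecSquare (pullback.fst b i) (pullback.snd b i) b i := by
  refine ⟨fun t s h => ?_, hn⟩
  obtain ⟨r₁, rfl⟩ := appTop_surjective i t
  obtain ⟨r₂, rfl⟩ := appTop_surjective b s
  let K : Ideal Γ(T, ⊤) := RingHom.ker i.appTop.hom ⊔ RingHom.ker b.appTop.hom
  let Q := Spec (CommRingCat.of (Γ(T, ⊤) ⧸ K))
  let q : Q ⟶ T := Spec.map (CommRingCat.ofHom (Ideal.Quotient.mk K)) ≫ T.isoSpec.inv
  have hq : ∀ r, q.appTop.hom r = (Scheme.ΓSpecIso _).inv.hom (Ideal.Quotient.mk K r) := fun r => by
    have hinv : T.isoSpec.inv.appTop = (Scheme.ΓSpecIso Γ(T, ⊤)).inv := by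
      rw [← Iso.comp_hom_eq_id (Scheme.ΓSpecIso Γ(T, ⊤)) |>.1]
      rw [← T.toSpecΓ_appTop, ← Scheme.Hom.comp_appTop, show T.toSpecΓ = T.isoSpec.hom from rfl, Iso.hom_inv_id,
        Scheme.Hom.id_appTop]
    have : q.appTop = CommRingCat.ofHom (Ideal.Quotient.mk K) ≫ (Scheme.ΓSpecIso _).inv := by
      rw [show q.appTop = T.isoSpec.inv.appTop ≫ (Spec.map (CommRingCat.ofHom (Ideal.Quotient.mk K))).appTop from
        Scheme.Hom.comp_appTop _ _, hinv, ← Scheme.ΓSpecIso_inv_naturality]
    rw [this]; rfl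
  have hfac : ∀ {P : Scheme.{u}} (j : P ⟶ T) [IsClosedImmersion j], RingHom.ker j.appTop.hom ≤ K →
      ∃ l : Q ⟶ P, l ≫ j = q := by
    intro P j _ hle
    refine ⟨IsClosedImmersion.lift j q ?_, IsClosedImmersion.lift_fac _ _ _⟩
    refine Scheme.IdealSheafData.le_of_isAffine ?_
    intro x hx
    simp only [Scheme.ker_of_isAffine, Scheme.IdealSheafData.ofIdealTop_ideal, homOfLE_refl, op_id,
      CategoryTheory.Functor.map_id, CommRingCat.hom_id, Ideal.map_id] at hx ⊢
    rw [RingHom.mem_ker] at hx ⊢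
    rw [hq, Ideal.Quotient.eq_zero_iff_mem.2 (hle hx), map_zero]
  obtain ⟨l₁, hl₁⟩ := hfac i le_sup_left
  obtain ⟨l₂, hl₂⟩ := hfac b le_sup_right
  let l := pullback.lift l₂ l₁ (hl₂.trans hl₁.symm)
  have e1 : q.appTop.hom r₁ = q.appTop.hom r₂ := by
    have q1 : q.appTop.hom r₁ = l.appTop.hom ((pullback.snd b i).appTop.hom (i.appTop.hom r₁)) := by
      have : q = l ≫ pullback.snd b i ≫ i := by rw [pullback.lift_snd_assoc, hl₁]
      rw [this, Scheme.Hom.comp_appTop, Scheme.Hom.comp_appTop]
      rfl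
    have q2 : q.appTop.hom r₂ = l.appTop.hom ((pullback.fst b i).appTop.hom (b.appTop.hom r₂)) := by
      have : q = l ≫ pullback.fst b i ≫ b := by rw [pullback.lift_fst_assoc, hl₂]
      rw [this, Scheme.Hom.comp_appTop, Scheme.Hom.comp_appTop]
      rfl
    rw [q1, q2, h]
  rw [hq, hq] at e1
  obtain ⟨y, hy, z, hz, hyz⟩ := Submodule.mem_sup.1
    (Ideal.Quotient.eq.1 ((ConcreteCategory.bijective_of_isIso (Scheme.ΓSpecIso _).inv).1 e1))
  refine ⟨r₁ - y, by rw [map_sub, (RingHom.mem_ker.1 hy : i.appTop.hom y = 0), sub_zero], ?_⟩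
  rw [show r₁ - y = r₂ + z by linear_combination -hyz, map_add, (RingHom.mem_ker.1 hz : b.appTop.hom z = 0), add_zero]

include hF

/-- Killing the torsion of an element. -/
theorem kill (A : CommRingCat.{u}) [IsNoetherianRing A] (c : A) : ∃ (B : Scheme.{u}) (b : B ⟶ Spec A),
    (∀ (n : ℕ) (j : A), c ^ n * j = 0 → BlowChartLib.secHom b ⊤ j = 0) ∧
    CovFam F (ι := Bool) (E := fun t => bif t then Spec (CommRingCat.of (A ⧸ Ideal.span {c, 0})) else B)
      (fun t => match t with
        | true => Spec.map (CommRingCat.ofHom (Ideal.Quotient.mk (Ideal.span {c, 0})))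
        | false => b) := by
  obtain ⟨N, hN⟩ : ∃ N : ℕ, ∀ (n : ℕ) (j : A), c ^ n * j = 0 → c ^ N * j = 0 := by
    let tors : ℕ →o Submodule A A :=
      ⟨fun n => LinearMap.ker (LinearMap.mulLeft A (c ^ n)), fun n m hnm j (hj : c ^ n * j = 0) => by
        show c ^ m * j = 0
        rw [← Nat.sub_add_cancel hnm, pow_add, mul_assoc, hj, mul_zero]⟩
    obtain ⟨N, hN⟩ := monotone_stabilizes_iff_noetherian.2 inferInstance tors
    refine ⟨N, fun n j hj => ?_⟩
    have : j ∈ tors (max n N) := tors.monotone (le_max_left _ _) hj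
    rw [← hN _ (le_max_right _ _)] at this
    exact this
  let J : Ideal A := LinearMap.ker (LinearMap.mulLeft A (c ^ N))
  let b := Spec.map (CommRingCat.ofHom (Ideal.Quotient.mk J))
  haveI : IsClosedImmersion b := IsClosedImmersion.spec_of_surjective _ Ideal.Quotient.mk_surjective
  let i := Spec.map (CommRingCat.ofHom (Ideal.Quotient.mk (Ideal.span ({c, 0} : Set A))))
  haveI : IsClosedImmersion i := IsClosedImmersion.spec_of_surjective _ Ideal.Quotient.mk_surjective
  refine ⟨_, b, fun n j hj => ?_, covFam_pair hF i b fun T' a hT => ?_⟩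
  · have h1 : (Scheme.ΓSpecIso A).inv ≫ b.appTop =
        CommRingCat.ofHom (Ideal.Quotient.mk J) ≫ (Scheme.ΓSpecIso _).inv := by
      exact (Scheme.ΓSpecIso_inv_naturality (CommRingCat.ofHom (Ideal.Quotient.mk J))).symm
    have h2 : BlowChartLib.secHom b ⊤ = ((Scheme.ΓSpecIso A).inv ≫ b.appTop).hom := by
      rw [BlowChartLib.secHom]; simp [Scheme.Hom.appLE]; rfl
    rw [h2, h1]
    simp only [CommRingCat.hom_comp, RingHom.comp_apply, CommRingCat.hom_ofHom]
    rw [Ideal.Quotient.eq_zero_iff_mem.2 (show j ∈ J from hN n j hj)]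
    exact map_zero _
  haveI := hT
  haveI : IsClosedImmersion (pullback.snd b a) := MorphismProperty.pullback_snd (P := @IsClosedImmersion) _ _ inferInstance
  haveI : IsClosedImmersion (pullback.snd i a) := MorphismProperty.pullback_snd (P := @IsClosedImmersion) _ _ inferInstance
  refine secSquare_closed _ _ ⟨N + 1, fun r hi hb => ?_⟩
  have h1 : r ∈ Ideal.span {BlowChartLib.secHom a ⊤ c} := by
    have := (ker_appTop i _ (ker_specMap_mk _) a).le hi
    rwa [Ideal.map_span, Set.image_pair, map_zero, Set.pair_comm, Ideal.span_insert_zero] at this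
  have h2 : J.map (BlowChartLib.secHom a ⊤) ≤ LinearMap.ker (LinearMap.mulLeft _ (BlowChartLib.secHom a ⊤ c ^ N)) := by
    refine Ideal.map_le_iff_le_comap.2 fun j hj => ?_
    show BlowChartLib.secHom a ⊤ c ^ N * _ = 0
    rw [← map_pow, ← map_mul, (show c ^ N * j = 0 from hj), map_zero]
  have h3 : BlowChartLib.secHom a ⊤ c ^ N * r = 0 := h2 ((ker_appTop b _ (ker_specMap_mk _) a).le hb)
  obtain ⟨d, rfl⟩ := Ideal.mem_span_singleton'.1 h1
  rw [pow_succ, mul_pow, mul_assoc, h3, mul_zero]

end Groth.Agent.HTopPerf
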